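import Cfsg.Agent.Mont.Cent
import Cfsg.Agent.Mont.M24c
import Cfsg.Agent.Mont.Tgt

set_option autoImplicit false
set_option maxRecDepth 4096

namespace Cfsg.Agent.Mont.C3B

open Cfsg.Agent.Comp

noncomputable def ns_0 : Net :=
 (Net.cons (nat_lit 128) (nat_lit 0x69696969969696966969696996969696)
 (Net.cons (nat_lit 64) (nat_lit 0x669999669966669900000000000000009966669966999966)
 (Net.cons (nat_lit 32) (nat_lit 0x96699669000000009669966900000000699669960000000069966996)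
 (Net.cons (nat_lit 16) (nat_lit 0x969600006969000096960000696900006969000096960000696900009696)
 (Net.cons (nat_lit 8) (nat_lit 0xa5005a005a00a5005a00a500a5005a00a5005a005a00a5005a00a500a5005a)
 (Net.cons (nat_lit 4) (nat_lit 0x30303030c0c0c0c030303030c0c0c0c030303030c0c0c0c030303030c0c0c0c)
 (Net.cons (nat_lit 2) (nat_lit 0x2211112211222211112222112211112222111122112222111122221122111122)
 (Net.cons (nat_lit 1) (nat_lit 0x505505050500505050550505050050550500505050550505050050505055050)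
 (Net.cons (nat_lit 4) (nat_lit 0xa0a0a0a0a0a0a0a0a0a0a0a0a0a0a0a0a0a0a0a0a0a0a0a0a0a0a0a0a0a0a0a)
 (Net.cons (nat_lit 8) (nat_lit 0xcc00cc00cc00cc00cc00cc00cc00cc00cc00cc00cc00cc00cc00cc00cc00cc)
 (Net.cons (nat_lit 32) (nat_lit 0xffff000000000000ffff000000000000ffff000000000000ffff0000)
 (Net.cons (nat_lit 128) (nat_lit 0xffffffffffffffff0000000000000000)
 Net.nil))))))))))))

noncomputable def ns_1 : Net :=
 (Net.cons (nat_lit 128) (nat_lit 0xc3c3c3c33c3c3c3cc3c3c3c33c3c3c3c)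
 (Net.cons (nat_lit 64) (nat_lit 0xa5a5a5a5a5a5a5a500000000000000005a5a5a5a5a5a5a5a)
 (Net.cons (nat_lit 32) (nat_lit 0xaaaaaaaa00000000aaaaaaaa00000000aaaaaaaa00000000aaaaaaaa)
 (Net.cons (nat_lit 16) (nat_lit 0x3c3c00003c3c00003c3c00003c3c00003c3c00003c3c00003c3c00003c3c)
 (Net.cons (nat_lit 8) (nat_lit 0x5a005a005a005a00a500a500a500a500a500a500a500a5005a005a005a005a)
 (Net.cons (nat_lit 4) (nat_lit 0xf0f0f0f000000000f0f0f0f000000000f0f0f0f000000000f0f0f0f0000)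
 (Net.cons (nat_lit 2) (nat_lit 0x1221211221121221211212211221211212212112211212212112122112212112)
 (Net.cons (nat_lit 1) (nat_lit 0x550055005500550500550055005500550055005500550050550055005500550)
 (Net.cons (nat_lit 16) (nat_lit 0xf0f00000f0f00000f0f00000f0f00000f0f00000f0f00000f0f00000f0f0)
 (Net.cons (nat_lit 64) (nat_lit 0xff00ff00ff00ff000000000000000000ff00ff00ff00ff00)
 (Net.cons (nat_lit 128) (nat_lit 0xffffffffffffffff0000000000000000)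
 Net.nil)))))))))))

noncomputable def ns_2 : Net :=
 (Net.cons (nat_lit 128) (nat_lit 0x66996699669966999966996699669966)
 (Net.cons (nat_lit 64) (nat_lit 0xa5a55a5aa5a55a5a0000000000000000a5a55a5aa5a55a5a)
 (Net.cons (nat_lit 32) (nat_lit 0x69699696000000006969969600000000696996960000000069699696)
 (Net.cons (nat_lit 16) (nat_lit 0xf0f0000f0f000000f0f0000f0f000000f0f0000f0f000000f0f0000f0f0)
 (Net.cons (nat_lit 8) (nat_lit 0x96009600690069006900690096009600960096006900690069006900960096)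
 (Net.cons (nat_lit 4) (nat_lit 0x606090906060909090906060909060606060909060609090909060609090606)
 (Net.cons (nat_lit 2) (nat_lit 0x1122112222112211221122111122112211221122221122112211221111221122)
 (Net.cons (nat_lit 1) (nat_lit 0x4444111144441111111144441111444444441111444411111111444411114444)
 (Net.cons (nat_lit 2) (nat_lit 0x2222222222222222222222222222222222222222222222222222222222222222)
 (Net.cons (nat_lit 8) (nat_lit 0xaa00aa00aa00aa00aa00aa00aa00aa00aa00aa00aa00aa00aa00aa00aa00aa)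
 (Net.cons (nat_lit 64) (nat_lit 0xf0f0f0f0f0f0f0f00000000000000000f0f0f0f0f0f0f0f0)
 Net.nil)))))))))))

noncomputable def ns_3 : Net :=
 (Net.cons (nat_lit 128) (nat_lit 0x99996666999966669999666699996666)
 (Net.cons (nat_lit 64) (nat_lit 0xffff0000ffff00000000000000000000ffff0000ffff00)
 (Net.cons (nat_lit 32) (nat_lit 0x3cc33cc300000000c33cc33c000000003cc33cc300000000c33cc33c)
 (Net.cons (nat_lit 16) (nat_lit 0x966900006996000096690000699600009669000069960000966900006996)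
 (Net.cons (nat_lit 8) (nat_lit 0xaa005500aa0055005500aa005500aa00aa005500aa0055005500aa005500aa)
 (Net.cons (nat_lit 4) (nat_lit 0x50a0a050a05050a050a0a050a05050a050a0a050a05050a050a0a050a05050a)
 (Net.cons (nat_lit 2) (nat_lit 0x1122221122111122112222112211112211222211221111221122221122111122)
 (Net.cons (nat_lit 1) (nat_lit 0x4411114444111144441111444411114444111144441111444411114444111144)
 (Net.cons (nat_lit 64) (nat_lit 0xffffffff000000000000000000000000ffffffff00000000)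
 Net.nil)))))))))

noncomputable def ns_4 : Net :=
 (Net.cons (nat_lit 128) (nat_lit 0x33333333cccccccc33333333cccccccc)
 (Net.cons (nat_lit 64) (nat_lit 0x33cccc3333cccc330000000000000000cc3333cccc3333cc)
 (Net.cons (nat_lit 32) (nat_lit 0xff0000ff00000000ff0000ff0000000000ffff000000000000ffff00)
 (Net.cons (nat_lit 16) (nat_lit 0xaa55000055aa0000aa55000055aa0000aa55000055aa0000aa55000055aa)
 (Net.cons (nat_lit 8) (nat_lit 0x3c003c003c003c00c300c300c300c300c300c300c300c3003c003c003c003c)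
 (Net.cons (nat_lit 4) (nat_lit 0xa05050a050a0a050a05050a050a0a05050a0a050a05050a050a0a050a05050a)
 (Net.cons (nat_lit 2) (nat_lit 0x1221122121122112122112212112211212211221211221121221122121122112)
 (Net.cons (nat_lit 1) (nat_lit 0x1441411414414114144141141441411414414114144141141441411414414114)
 (Net.cons (nat_lit 4) (nat_lit 0xc0c0c0c0c0c0c0c0c0c0c0c0c0c0c0c0c0c0c0c0c0c0c0c0c0c0c0c0c0c0c0c)
 (Net.cons (nat_lit 32) (nat_lit 0xffff000000000000ffff000000000000ffff000000000000ffff0000)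
 (Net.cons (nat_lit 64) (nat_lit 0xff00ff00ff00ff000000000000000000ff00ff00ff00ff00)
 Net.nil)))))))))))

noncomputable def ns_5 : Net :=
 (Net.cons (nat_lit 128) (nat_lit 0xffff00000000ffff0000ffffffff0000)
 (Net.cons (nat_lit 64) (nat_lit 0xc33cc33cc33cc33c0000000000000000c33cc33cc33cc33c)
 (Net.cons (nat_lit 32) (nat_lit 0xcccccccc00000000cccccccc00000000cccccccc00000000cccccccc)
 (Net.cons (nat_lit 16) (nat_lit 0xcccc0000cccc0000cccc0000cccc0000cccc0000cccc0000cccc0000cccc)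
 (Net.cons (nat_lit 8) (nat_lit 0xff0000000000ff000000ff00ff000000ff0000000000ff000000ff00ff0000)
 (Net.cons (nat_lit 4) (nat_lit 0xf0f00000f0f00000f0f00000f0f00000f0f00000f0f00000f0f00000f0f0000)
 (Net.cons (nat_lit 2) (nat_lit 0x3333000033330000333300003333000033330000333300003333000033330000)
 (Net.cons (nat_lit 1) (nat_lit 0x5555000055550000555500005555000055550000555500005555000055550000)
 Net.nil))))))))

noncomputable def ns_6 : Net :=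
 (Net.cons (nat_lit 128) (nat_lit 0x3cc3c33cc33c3cc3c33c3cc33cc3c33c)
 (Net.cons (nat_lit 64) (nat_lit 0x3c3cc3c3c3c33c3c00000000000000003c3cc3c3c3c33c3c)
 (Net.cons (nat_lit 32) (nat_lit 0xffff000000000000ffff000000000000ffff000000000000ffff0000)
 (Net.cons (nat_lit 16) (nat_lit 0xf0f0000f0f000000f0f0000f0f000000f0f0000f0f000000f0f0000f0f0)
 (Net.cons (nat_lit 8) (nat_lit 0xff00ff00ff00ff000000000000000000ff00ff00ff00ff00000000)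
 (Net.cons (nat_lit 4) (nat_lit 0xc0c0c0c0c0c0c0c0c0c0c0c0c0c0c0c0c0c0c0c0c0c0c0c0c0c0c0c0c0c0c0c)
 (Net.cons (nat_lit 2) (nat_lit 0x3030030303033030303003030303303030300303030330303030030303033030)
 (Net.cons (nat_lit 1) (nat_lit 0x1144441111444411441111444411114411444411114444114411114444111144)
 (Net.cons (nat_lit 4) (nat_lit 0xc0c0c0c0c0c0c0c0c0c0c0c0c0c0c0c0c0c0c0c0c0c0c0c0c0c0c0c0c0c0c0c)
 (Net.cons (nat_lit 16) (nat_lit 0xf0f00000f0f00000f0f00000f0f00000f0f00000f0f00000f0f00000f0f0)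
 (Net.cons (nat_lit 32) (nat_lit 0xffff000000000000ffff000000000000ffff000000000000ffff0000)
 Net.nil)))))))))))

noncomputable def ns_7 : Net :=
 (Net.cons (nat_lit 128) (nat_lit 0x55aaaa5555aaaa55aa5555aaaa5555aa)
 (Net.cons (nat_lit 64) (nat_lit 0x666699999999666600000000000000006666999999996666)
 (Net.cons (nat_lit 32) (nat_lit 0x3c3c3c3c000000003c3c3c3c000000003c3c3c3c000000003c3c3c3c)
 (Net.cons (nat_lit 16) (nat_lit 0x3c3c0000c3c30000c3c300003c3c00003c3c0000c3c30000c3c300003c3c)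
 (Net.cons (nat_lit 8) (nat_lit 0xf000f000f000f00f000f000f000f0000f000f000f000f00f000f000f000f0)
 (Net.cons (nat_lit 4) (nat_lit 0xc0c0c0c0c0c0c0c0c0c0c0c0c0c0c0c0c0c0c0c0c0c0c0c0c0c0c0c0c0c0c0c)
 (Net.cons (nat_lit 2) (nat_lit 0x3003033003303003033030033003033030030330033030030330300330030330)
 (Net.cons (nat_lit 1) (nat_lit 0x1111444411114444111144441111444411114444111144441111444411114444)
 (Net.cons (nat_lit 4) (nat_lit 0xc0c0c0c0c0c0c0c0c0c0c0c0c0c0c0c0c0c0c0c0c0c0c0c0c0c0c0c0c0c0c0c)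
 (Net.cons (nat_lit 8) (nat_lit 0xf000f000f000f000f000f000f000f000f000f000f000f000f000f000f000f0)
 (Net.cons (nat_lit 32) (nat_lit 0xffff000000000000ffff000000000000ffff000000000000ffff0000)
 (Net.cons (nat_lit 64) (nat_lit 0xffffffff000000000000000000000000ffffffff00000000)
 Net.nil))))))))))))

noncomputable def ns_8 : Net :=
 (Net.cons (nat_lit 128) (nat_lit 0xc33cc33cc33cc33cc33cc33cc33cc33c)
 (Net.cons (nat_lit 64) (nat_lit 0x3c3cc3c3c3c33c3c00000000000000003c3cc3c3c3c33c3c)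
 (Net.cons (nat_lit 4) (nat_lit 0xf0f0f0f000000000f0f0f0f000000000f0f0f0f000000000f0f0f0f0000)
 (Net.cons (nat_lit 2) (nat_lit 0x333333330000000033333333000000003333333300000000333333330000)
 (Net.cons (nat_lit 1) (nat_lit 0x55005555005500005500555500550000550055550055000055005555005500)
 Net.nil)))))

noncomputable def ns : List Net := [ns_0, ns_1, ns_2, ns_3, ns_4, ns_5, ns_6, ns_7, ns_8]

theorem ctx : Ctx 256 8 ns := ctx_of (by decide +kernel)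

open Subgroup Cfsg Cfsg.Spor Cfsg.Agent.Spor Cfsg.Agent.Spor.Leech Cfsg.Agent.Spor.M24C
open scoped Pointwise

noncomputable def G_C3 : List Lvl :=
  []

noncomputable def G_ss2 : List (List ℕ) :=
  [[10], [12]]

noncomputable def G_D2 : ℕ :=
  nat_lit 0x2428000000000808242800000000040418140000000004041814000000000808

noncomputable def G_l2 : Lvl :=
  ⟨3, [[10], [12], [16]],
  tabC 16 65535 [nat_lit 0x7c043c01000000000000000000000000c3010000f30400000000000000000000000000000000000000000000000000000000000000000000000000000000000000000000000000000000000000000000000000000000000000000000000000000000740200000000000000000000000000000000000000000000,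
 nat_lit 0x301c30000000000000000000000000003020000fd0100000000000000000000000000000000000000000000000000000000000000000000000000000000000000000000000000000000000000000000000000000000000000000000000000000000000032010000000000000000000000000000820400000000,
 nat_lit 0xfd0400000000f302000000000000000074040000f30300000000000000000000000000000000000000000000000000000000000000000000000000000000000000000000000000000000000000000000000000000000000000000000000000000000000000007c0300000000000000000000000000007c0200000000,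
 nat_lit 0x30300000000ba040000000000000000320000000300000000000000000000000000000000000000000000000000000000000000000000000000000000000000000000000000000000000000000000000000000000000000000000000000000000000000740000000000000000000000000000000304000000000000], 3⟩

noncomputable def G_C2 : List Lvl :=
  G_l2 :: G_C3

noncomputable def G_ss1 : List (List ℕ) :=
  [[4], [6]]

noncomputable def G_D1 : ℕ :=
  nat_lit 0x20082400142034340c38202808103c2020082400142034340c38202808103c2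

noncomputable def G_l1 : Lvl :=
  ⟨1, [[4], [6], [14], [10], [12], [16]],
  tabC 16 65535 [nat_lit 0xbe080000000000000000000000000706d104000000000000000046024101900000000000000000000000b7020000000000000000000000000000900400006f0800000000000000000000000000006f010000000000000000000000006f07000000000000000000000000880887048805d100000000000000000000000000,
 nat_lit 0xbe0600000000000000000000000000000000000001020000000000000000000090080000000007010000000000000000000000000000000000000000000000000000c002000090090000000000000000b6050000000000000000000000000000d10588060000880400000000000000000104d803,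
 nat_lit 0x88000000000000000000000000000101b70800000000000000006f00b7069001000000000000000000006f0a00000000000000000000000000006f0200006f050000000000000000000000000000d10a0000000000000000000000000103000000000000000000000000be030100b707be04000000000000000010020000,
 nat_lit 0x4607000000000000000000000000000000000000900600000000000000000000460000000000b705000000000000000000000000000000000000000000000000000088030000900a000000000000000088020000000000000000000000000000410709030000be070000000000000000b0008807], 3⟩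

noncomputable def G_C1 : List Lvl :=
  G_l1 :: G_C2

noncomputable def G_ss0 : List (List ℕ) :=
  [[0], [2]]

noncomputable def G_D0 : ℕ :=
  nat_lit 0x2728be4e7d721bebe4eb8272beb127d71b148272414e27d7d8d7be4e828d1bea

noncomputable def G_l0 : Lvl :=
  ⟨128, [[0], [2], [8], [4], [6], [14], [10], [12], [16]],
  tabC 16 65535 [nat_lit 0x470b64010000b30690000000000000003e0622010000420f0000780487027202900600006409640d4703b301900400000000470900000000d40cb309900a0000900d0000000000000000000061080000e60e0000000000002b0ed40100005e030000000000002b033c0c0000870b870a820387089b0900002b05000090080000,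
 nat_lit 0x820fb30f0000f910470e000000000000b30c0000b310000000009f0a00000000000000000000900e000000009f09d40e800400000000800100000000470800000000000000000000e6000000900f00000000d40fb300f802000000000000420300000000640ade05900b800042010000420400008003dd018706,
 nat_lit 0x610a87048a0d000000008a07000000006400e602b30a00008002000078033f04900700000000000000000000e60f00000000610e2a06640c00000000e60700004205000082089b10b3056407de0e000064020000d40bb304000000000000470200000000b30b000000006103e205f303610294020000ea0600004704e9000000,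
 nat_lit 0x900500000000420c6104470d0000000082060000b30e000000000000900c000090026403e603b302420000000000470500000000420b640e4707000000004700b308d403ea0eea0c00008700000090104209800500000000d40000000000000000008a03b30d00008a04e1036106f90f42080000d40a0000bf023c05], 3⟩

noncomputable def G_C0 : List Lvl :=
  G_l0 :: G_C1

theorem G_lb3 : 1 ≤ Nat.card (cgrp ns G_C3) :=
  lb_nil _

theorem G_le2 : gen ns G_l2.ws ≤ gen ns G_ss2 :=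
  gen_le_step ctx (tgt := [[16]])
  (es := [([16], [1, 2, 2, 0])]) (le_refl (gen _ [])) (by decide +kernel)

theorem G_lv2 : chkLvl 256 ns G_l2 G_C3 G_D2 2 = true :=
  by decide +kernel

theorem G_lb2 : 24 ≤ Nat.card (cgrp ns G_C2) :=
  lb_step ctx G_lv2 G_lb3 (by decide +kernel)

theorem G_le1 : gen ns G_l1.ws ≤ gen ns G_ss1 :=
  gen_le_step ctx (tgt := [[10], [12], [14]])
  (es := [([10], [3, 3, 1, 3, 1, 3, 3, 0, 3, 3, 0, 3]), ([12], [5, 5, 5, 3, 5, 5]), ([14], [4, 7, 4, 7])]) G_le2 (by decide +kernel)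

theorem G_lv1 : chkLvl 256 ns G_l1 G_C2 G_D1 2 = true :=
  by decide +kernel

theorem G_lb1 : 1344 ≤ Nat.card (cgrp ns G_C1) :=
  lb_step ctx G_lv1 G_lb2 (by decide +kernel)

theorem G_le0 : gen ns G_l0.ws ≤ gen ns G_ss0 :=
  gen_le_step ctx (tgt := [[4], [6], [8]])
  (es := [([4], [0, 2, 1, 2, 1, 2, 1, 1, 1]), ([6], [3, 4, 4, 4, 4, 2, 4, 2, 2, 5, 5, 3, 5, 3]), ([8], [6, 4, 7, 4, 6, 5])]) G_le1 (by decide +kernel)

theorem G_lv0 : chkLvl 256 ns G_l0 G_C1 G_D0 2 = true :=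
  by decide +kernel

theorem G_lb0 : 181440 ≤ Nat.card (cgrp ns G_C0) :=
  lb_step ctx G_lv0 G_lb1 (by decide +kernel)

theorem G_lb : 181440 ≤ Nat.card (gen ns G_ss0) :=
  lb_of_le ctx G_le0 G_lb0

noncomputable def P : ℕ :=
  nat_lit 0xffffffffffffffffffffffffffffffff00000000000000000000000000000000ffffffffffffffff0000000000000000ffffffffffffffff0000000000000000ffffffff00000000ffffffff00000000ffffffff00000000ffffffff00000000ffff0000ffff0000ffff0000ffff0000ffff0000ffff0000ffff0000ffff0000ff00ff00ff00ff00ff00ff00ff00ff00ff00ff00ff00ff00ff00ff00ff00ff00f0f0f0f0f0f0f0f0f0f0f0f0f0f0f0f0f0f0f0f0f0f0f0f0f0f0f0f0f0f0f0f0ccccccccccccccccccccccccccccccccccccccccccccccccccccccccccccccccaaaaaaaaaaaaaaaaaaaaaaaaaaaaaaaaaaaaaaaaaaaaaaaaaaaaaaaaaaaaaaaa55aa55aaaa55aa55aa55aa5555aa55aa55aa55aaaa55aa55aa55aa5555aa55aa3cc33cc3c33cc33c3cc33cc3c33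cc33c3cc33cc3c33cc33c3cc33cc3c33cc33c55555555aaaaaaaa55555555aaaaaaaa55555555aaaaaaaa55555555aaaaaaaaa55a5aa5a55a5aa55aa5a55a5aa5a55aa55a5aa5a55a5aa55aa5a55a5aa5a55a3c3c3c3c3c3c3c3c3c3c3c3c3c3c3c3c3c3c3c3c3c3c3c3c3c3c3c3c3c3c3c3caa55aa55aa55aa5555aa55aa55aa55aaaa55aa55aa55aa5555aa55aa55aa55aa00ffff0000ffff0000ffff0000ffff0000ffff0000ffff0000ffff0000ffff00cccccccc3333333333333333cccccccccccccccc3333333333333333cccccccc00ffff0000ffff0000ffff0000ffff0000ffff0000ffff0000ffff0000ffff00aaaa5555aaaa55555555aaaa5555aaaaaaaa5555aaaa55555555aaaa5555aaaa666699999999666666669999999966666666999999996666666699999999666666669999999966666666999999996666666699999999666666669999999966666666999999996666666699999999666666669999999966666666999999996666cc3333cc33cccc3333cccc33cc3333cccc3333cc33cccc3333cccc33cc3333cccc3333cc33cccc3333cccc33cc3333cccc3333cc33cccc3333cccc33cc3333cccc3333cc33cccc3333cccc33cc3333cccc3333cc33cccc3333cccc33cc3333cc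

noncomputable def X : List (List ℤ) :=
  [[-1, 0, -1, -1, -1, -1, -1, 0, -1, -1, 0, 2, 2, 2, 2, 1, 2, 2, 3, 2, 2, 2, 2, -9],
  [-1, -1, 0, -1, -1, -1, -1, -1, -1, -1, -1, 2, 3, 2, 3, 2, 3, 3, 3, 3, 3, 3, 2, -13],
  [1, 0, 0, 0, 0, 0, 1, 1, 0, 0, 0, 0, -1, 0, -1, -1, 0, -1, -1, -1, 0, 0, -1, 3],
  [0, 0, 0, 0, 1, 0, 0, 0, 1, 0, 1, 0, -1, -1, 0, -1, -1, 0, 0, -1, -1, -1, 0, 3],
  [-1, -1, -1, -1, -1, 0, 0, 0, -1, -1, 0, 2, 2, 2, 1, 1, 2, 2, 2, 2, 2, 1, 2, -8],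
  [0, 0, 0, 1, 0, 0, 1, 1, 1, 0, 1, 0, -1, -1, -1, -2, -1, -1, -2, -2, -1, -2, -1, 7],
  [0, 0, 0, 0, 0, 0, 0, 1, 1, 0, 0, 0, 0, 0, 0, -1, 0, 0, -1, -1, -1, 0, 0, 2],
  [0, 0, 0, 0, 0, 0, 1, 0, 0, 1, 1, 0, 0, 0, -1, -1, -1, 0, 0, -1, -1, -1, -1, 3],
  [-1, -1, -1, -1, -1, -1, 0, -1, 0, -1, -1, 2, 3, 2, 3, 2, 2, 3, 2, 2, 3, 2, 2, -11],
  [-1, -1, -1, -1, -1, -1, 0, -1, 0, -1, 0, 2, 3, 2, 2, 1, 2, 3, 2, 2, 2, 1, 2, -9],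
  [-1, -1, -1, -1, -1, -1, 0, 0, 0, -1, -1, 2, 3, 2, 2, 1, 2, 2, 2, 2, 2, 2, 2, -9],
  [0, 0, 0, 0, 0, 0, 0, -2, 0, 0, 0, 1, 1, 0, 1, 1, 0, 1, 1, 1, 1, 0, 0, -3],
  [0, 0, 0, 0, 0, 0, 0, 2, 0, 0, 0, 0, -1, 0, -1, -1, 0, -1, 0, -1, -1, 0, 0, 3],
  [0, 0, 0, 0, 0, 0, 0, 2, 0, 0, 0, 0, -1, 0, -1, -1, 0, -1, -1, -1, 0, 0, 0, 3],
  [0, 0, 0, 0, 0, 0, 0, 2, 0, 0, 0, 0, 0, 0, -1, -1, 0, -1, -1, -1, -1, 0, 0, 3],
  [0, 0, 0, 0, 0, 0, 0, 2, 0, 0, 0, 0, -1, 0, -1, -1, 0, -1, -1, -1, -1, 1, 0, 3],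
  [-2, -2, -2, -2, -2, -2, -2, 0, -2, -2, -2, 4, 5, 5, 5, 4, 5, 4, 5, 5, 5, 5, 5, -22],
  [0, 0, 0, 0, 0, 0, 0, 2, 0, 0, 2, 0, -2, 0, -2, -2, -1, -1, -1, -1, -2, -1, 0, 6],
  [0, 0, 0, 0, 0, 0, 0, 2, 0, 0, 0, 0, -1, 0, 0, -1, 0, -1, -1, -1, -1, 0, 0, 3],
  [0, 0, 0, 0, 0, 0, 0, 2, 0, 0, 0, 0, -1, 0, -1, -1, 0, 0, -1, -1, -1, 0, 0, 3],
  [0, 0, 0, 0, 0, 0, 2, 2, 0, 0, 0, 0, -1, 0, -2, -2, 0, -1, -2, -2, -1, -1, -1, 6],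
  [0, 0, 0, 0, 0, 0, 0, 2, 2, 0, 0, 0, -1, -1, -1, -2, -1, -1, -2, -2, -2, -1, 0, 7],
  [0, 0, 0, 0, 0, 0, 0, 2, 0, 0, 0, 0, -1, 0, -1, -1, 1, -1, -1, -1, -1, 0, 0, 3],
  [0, 0, 0, 0, 0, 0, 0, 4, 0, 0, 0, 0, -2, 0, -2, -2, 0, -2, -2, -2, -2, 0, 0, 7]]

noncomputable def X' : List (List ℤ) :=
  [[2, 2, 1, 1, 1, 1, 1, 2, 1, 1, 2, 2, 1, 0, 1, 0, 1, 0, 1, 0, 0, 0, 0, 0],
  [2, 1, 2, 2, 2, 2, 1, 2, 2, 2, 2, 2, 1, 0, 0, 0, 1, 1, 1, 0, 1, 1, 0, 0],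
  [2, 1, 1, 1, 1, 2, 2, 2, 2, 2, 2, 2, 0, 0, 1, 0, 1, 0, 1, 0, 1, 1, 0, 0],
  [2, 1, 1, 1, 2, 2, 1, 2, 2, 2, 2, 2, 0, 0, 1, 0, 1, 1, 1, 0, 1, 0, 0, 0],
  [1, 0, 1, 1, 1, 2, 1, 2, 1, 1, 1, 2, 0, 0, 0, 0, 0, 1, 1, 0, 1, 0, 0, 0],
  [1, 1, 1, 1, 1, 1, 1, 2, 1, 1, 2, 2, 1, 0, 1, 0, 0, 0, 0, 0, 1, 0, 0, 0],
  [2, 2, 1, 2, 2, 2, 1, 2, 2, 2, 2, 2, 1, 1, 1, 0, 1, 1, 0, 0, 0, 1, 0, 0],
  [2, 1, 1, 2, 1, 2, 2, 2, 1, 2, 2, 2, 1, 0, 1, 0, 0, 1, 1, 0, 0, 1, 0, 0],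
  [1, 1, 1, 1, 1, 2, 2, 2, 2, 2, 2, 2, 0, 0, 1, 1, 0, 1, 0, 0, 1, 1, 0, 0],
  [2, 1, 1, 1, 2, 1, 1, 1, 1, 1, 2, 1, 2, 1, 1, 1, 2, 2, 1, 1, 1, 1, 1, 2],
  [1, 1, 1, 2, 1, 1, 2, 2, 2, 1, 1, 2, 1, 0, 0, 0, 0, 0, 1, 1, 0, 1, 0, 0],
  [2, 2, 2, 2, 2, 2, 2, 1, 2, 2, 2, 2, 1, 1, 1, 1, 1, 1, 1, 1, 1, 1, 1, 1],
  [1, 0, 1, 1, 0, 1, 1, 2, 1, 0, 0, 1, 0, 0, 0, 0, 0, 0, 2, 0, 0, 0, 0, 0],
  [0, 0, 1, 0, 1, 1, 0, 2, 1, 1, 1, 1, 0, 0, 0, 0, 0, 0, 0, 0, 2, 0, 0, 0],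
  [1, 1, 1, 1, 1, 0, 0, 2, 0, 0, 1, 1, 2, 0, 0, 0, 0, 0, 0, 0, 0, 0, 0, 0],
  [0, 0, 0, 1, 0, 1, 1, 1, 1, 1, 1, 1, 0, 0, 0, 0, 0, 0, 0, 0, 0, 2, 0, 0],
  [0, 0, 0, 0, 0, 0, 0, 1, 0, 0, 0, 1, 0, 0, 0, 0, 0, 0, 0, 0, 0, 0, 0, 0],
  [0, 0, 0, 0, 0, 0, 0, 1, 0, 0, 1, 1, 0, 0, 0, 0, 0, 0, 0, 0, 0, 0, 0, 0],
  [1, 1, 0, 0, 0, 1, 1, 2, 0, 1, 1, 1, 0, 0, 2, 0, 0, 0, 0, 0, 0, 0, 0, 0],
  [1, 0, 0, 1, 1, 1, 0, 2, 0, 1, 0, 1, 0, 0, 0, 0, 0, 2, 0, 0, 0, 0, 0, 0],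
  [0, 0, 0, 0, 0, 0, 1, 1, 0, 0, 0, 1, 0, 0, 0, 0, 0, 0, 0, 0, 0, 0, 0, 0],
  [0, 0, 0, 0, 0, 0, 0, 1, 1, 0, 0, 1, 0, 0, 0, 0, 0, 0, 0, 0, 0, 0, 0, 0],
  [1, 1, 0, 0, 1, 0, 0, 1, 1, 1, 1, 1, 0, 0, 0, 0, 2, 0, 0, 0, 0, 0, 0, 0],
  [0, 0, 0, 0, 0, 0, 0, 2, 0, 0, 0, 1, 0, 0, 0, 0, 0, 0, 0, 0, 0, 0, 0, 0]]

theorem isoX : chkIso X X' = true :=
  by decide +kernel

theorem x_eq : permHom (mc x2) = elt X X' isoX :=
  permHom_eq_elt okM_x2 isoX (by decide +kernel)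

noncomputable def C0 : List (List ℤ) :=
  [[1, 0, 1, 0, 0, -1, 0, 0, 0, 0, 1, 0, -2, 0, -1, -1, -1, 0, -1, 0, 0, 0, -1, 3],
  [0, 1, 1, 0, 0, 0, 0, 0, 0, 0, 0, 0, -1, -1, -1, -1, 0, 0, -1, 0, 0, 0, -1, 3],
  [0, 0, 1, 0, -1, -1, 0, 0, -1, 0, 0, 1, 0, 1, 0, 0, 1, 1, 0, 1, 1, 1, -1, -2],
  [-1, -1, 0, -1, -1, -1, -1, 0, 0, -1, -1, 2, 2, 2, 2, 1, 2, 2, 1, 2, 2, 2, 2, -8],
  [0, 0, 1, 0, 0, -1, 1, 1, 0, 0, 0, 0, -1, 0, -1, -1, 0, 0, -1, -1, 0, 0, -1, 3],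
  [0, 0, 0, -1, 0, -1, 0, 0, 0, 0, 0, 1, 0, 1, 0, 0, 0, 1, 1, 0, 1, 1, 0, -2],
  [0, 0, 0, 0, 0, -1, -1, -1, 0, 0, 0, 1, 0, 1, 1, 1, 0, 1, 1, 1, 1, 1, 0, -3],
  [0, 0, 1, 0, 0, 0, 1, 0, 0, 0, 0, 0, -1, 0, -1, -1, 0, 0, -1, 0, 0, 0, -1, 2],
  [0, 0, 0, 0, 0, 0, 0, 0, 0, 0, 0, 1, 0, 0, -1, 0, 0, 0, 0, 0, 0, 0, 0, 1],
  [0, 0, 1, 0, 0, 0, 0, 0, 1, 1, 0, 0, -1, -1, -1, -1, -1, 0, -1, -1, -1, -1, -1, 5],
  [0, 0, 0, 0, 0, -1, 1, -1, 0, 0, 0, 1, 0, 0, 0, 0, 0, 1, 0, 0, 1, 0, -1, 0],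
  [0, 0, 0, -1, -1, 0, 0, 0, 0, 0, -1, 1, 1, 1, 0, 0, 1, 1, 0, 1, 1, 1, 1, -3],
  [0, 0, 1, 0, 0, -1, 1, 0, 0, -1, 1, 0, -1, 0, 0, -1, 0, 1, -1, 0, 0, 0, -1, 1],
  [0, 1, 0, 0, 0, -1, 0, 1, 0, 0, 1, 0, -1, 0, -1, -1, -1, 0, 0, -1, 0, 0, -1, 3],
  [0, 1, 0, 0, 0, -1, 0, -1, 0, 0, 1, 0, -1, 0, 0, 0, -1, 1, 1, 0, 1, 0, -1, 0],
  [0, 0, 0, 1, 0, -1, 0, 0, 0, 0, 1, 0, -1, 0, 0, 0, 0, 0, 0, 0, 0, 0, -1, 1],
  [1, 0, 0, 0, 0, -1, 0, 0, 0, 0, 1, 0, -1, 0, -1, 0, -1, 0, 0, 0, 0, 0, -1, 2],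
  [0, -1, 0, 0, 0, -1, 0, 1, 0, 0, 1, 0, -1, 1, 0, 0, 0, 0, 0, 0, 0, 0, 0, 0],
  [1, 0, 0, 0, 0, -1, 0, 0, 0, 0, 1, 0, -1, 1, -1, 0, -1, 0, 0, 0, 0, 0, -1, 1],
  [-1, 0, 0, 0, 0, -1, 0, 0, 0, 0, 1, 0, 0, 1, 0, 0, 0, 1, 1, 0, 0, 0, 0, -1],
  [0, 0, 1, 0, 0, -1, 1, 0, 0, 1, 1, 0, -1, 0, -1, -1, -1, 0, 0, -1, -1, -1, -2, 4],
  [-1, -1, -1, -1, 0, -2, -1, -1, 0, -1, 0, 2, 2, 2, 3, 2, 1, 3, 3, 2, 2, 2, 2, -10],
  [0, 0, 1, 0, 0, -1, -1, 0, 0, 1, 1, 0, -1, 0, 0, 0, -1, 0, 0, 0, -1, 0, -1, 2],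
  [0, 0, 0, 0, 0, -2, 0, 0, 0, 0, 2, 0, -1, 1, 0, 0, -1, 1, 1, 0, 0, 0, -1, 0]]

noncomputable def W0 : List (List ℤ) :=
  [[-1, -1, 0, -1, 0, -1, -1, -1, 0, 0, 0, 0, -1, 0, -1, 0, 0, 0, -1, 0, 1, 0, 0, 0],
  [0, 1, 1, 0, 2, 0, 0, 0, 1, 1, 1, 0, 1, 1, 0, 1, 2, 1, 0, 2, 2, 1, 1, 2],
  [0, 1, 1, 1, 1, 0, 0, 1, 1, 1, 1, 2, 0, 0, -1, 0, 0, 0, -1, 0, 0, 0, -1, -1],
  [-1, 0, 1, 0, 1, 0, -1, 0, 1, 0, 0, 1, 0, 1, -1, 0, 0, 0, -1, 0, 1, 0, 0, 0],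
  [0, 0, 2, 0, 1, 0, 1, 1, 1, 0, 1, 0, 1, 1, 0, 2, 1, 1, 1, 1, 2, 1, 1, 2],
  [0, 0, 1, 0, 1, 1, 0, 1, 2, 1, 1, 2, -1, 0, -1, 0, 0, 0, 0, -1, 1, 0, -1, -1],
  [0, 1, 1, 1, 2, 1, 0, 0, 2, 1, 1, 1, 0, 2, 0, 1, 1, 1, 0, 1, 1, 1, 0, 1],
  [-1, 0, 1, 1, 1, 1, 1, 0, 2, 1, 0, 1, -1, 1, -1, 0, 0, 0, 0, 1, 1, 1, 0, 0],
  [1, 1, 2, 2, 2, 1, 1, 1, 2, 1, 1, 2, 1, 1, -1, 1, 1, 1, 1, 1, 1, 1, 1, 1],
  [0, -1, 1, 0, 1, 1, 0, 0, 1, 1, 0, 0, 0, 1, 0, 1, 1, 2, 1, 1, 2, 1, 1, 2],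
  [0, 0, 0, 0, 1, 0, 1, 0, 1, 1, 1, 1, 0, 0, 0, 1, 1, 1, 0, 1, 1, 1, 0, 1],
  [1, 1, 1, 1, 1, 1, 1, 0, 1, 2, 0, 1, 0, 1, 0, 0, 1, 1, 0, 1, 1, 1, 2, 1],
  [-1, 0, 0, -1, 0, -1, 0, 0, 0, -1, 1, 0, 0, 0, 0, 1, 0, 0, -1, 0, 0, 0, -1, 0],
  [0, 1, 1, 0, 1, 0, 0, 2, 1, 0, 2, 1, 1, 0, 0, 1, 0, 0, 0, 0, 1, 0, -1, 0],
  [-1, 0, 0, -1, 0, 0, 0, 0, 1, 0, 1, 0, -1, 0, 0, 1, 0, 0, 0, 0, 1, 0, -1, 0],
  [0, 1, 0, 1, 1, 0, 1, 1, 2, 1, 2, 1, 0, 0, 0, 1, 1, 0, 0, 1, 0, 1, -1, 0],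
  [0, -1, 0, -1, 0, -1, 0, 0, 0, -1, 1, -1, 1, 0, 0, 2, 1, 1, 1, 1, 1, 1, 0, 2],
  [-1, -1, 0, -1, 0, 0, 0, 1, 1, 0, 1, 0, -1, 0, 0, 1, 0, 0, 0, 0, 1, 0, -1, 0],
  [-1, 0, 0, 0, 0, -1, -1, 0, 1, -1, 0, 1, -1, 0, -2, 0, -1, -1, -1, -1, -1, -1, -2, -2],
  [-1, 0, 1, 0, 1, 0, 0, 0, 1, -1, 1, -1, 1, 2, 0, 2, 1, 1, 1, 1, 1, 1, 0, 2],
  [0, 0, 1, 0, 0, 0, 1, 1, 1, 0, 1, 1, 0, 0, 0, 1, 0, 0, 1, 0, 0, 0, -1, 0],
  [0, 0, 0, 0, 1, 0, 0, 1, 1, 0, 1, 1, 0, 0, 0, 1, 0, 1, 0, 0, 0, 0, -1, 0],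
  [-1, 0, 0, -1, 0, -1, -1, 0, 0, 0, 1, 0, 0, 0, 0, 1, 0, 0, -1, 0, 0, 0, -1, 0],
  [-1, 0, 0, -1, 0, -1, 0, 1, 1, -1, 2, 0, 0, 0, 0, 2, 0, 0, 0, 0, 0, 0, -2, 0]]

theorem iso0 : chkIso C0 W0 = true :=
  by decide +kernel

theorem rep0 : ∃ g ∈ centralizer ({permHom (mc x2)} : Set Co0), RepBy 256 (lpt 256 P []) g (wp ns [0]) :=
  rep_cent ctx x_eq iso0 (by decide +kernel)

noncomputable def C1 : List (List ℤ) :=
  [[1, 1, 0, 1, 0, 0, 0, -1, 0, -1, 0, 0, -1, -1, 0, 0, -1, 0, 0, 0, 1, 0, -1, 1],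
  [1, 1, 0, 1, 1, 1, 1, -1, 1, 0, 0, -1, -1, -2, -1, -1, -2, -1, -2, -2, -1, -2, -2, 7],
  [0, 0, -1, 0, 0, 1, -1, -1, 0, -1, 0, 1, 1, 0, 1, 1, 0, 0, 1, 1, 1, 0, 1, -3],
  [1, 0, 0, 0, 0, 1, 0, -1, -1, -1, 0, 0, 0, 0, 0, 1, 0, 0, 0, 1, 1, 0, 0, -2],
  [1, 2, 0, 1, 1, 1, 0, 0, 0, 0, 0, -1, -2, -2, -2, -1, -2, -2, -1, -2, -1, -1, -2, 8],
  [0, 1, 0, 1, 0, 1, 0, 0, -1, 0, 0, 0, -1, -1, -1, 0, 0, -1, 0, -1, 0, -1, -1, 3],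
  [1, 0, 0, 1, 0, 1, 0, -1, 0, 0, -1, 0, 0, -1, 0, 1, 0, -1, -1, 0, 1, -1, -1, 1],
  [0, 1, 1, 1, 0, 1, 0, -1, 0, -1, 0, 0, -1, -2, 0, -1, 0, 0, -1, 0, 0, -1, -1, 3],
  [0, 1, 0, 1, 1, 2, 1, 0, 0, 0, 0, -1, -1, -2, -2, -1, -1, -2, -2, -2, -1, -2, -1, 7],
  [1, 1, 1, 2, 0, 1, 1, 0, 0, 0, 0, -1, -2, -2, -2, -1, -1, -2, -3, -2, -1, -2, -3, 9],
  [0, 1, 0, 1, 1, 0, 0, -1, 0, 0, 0, 0, -1, -1, 0, 0, -1, -1, 0, -1, 0, -1, -1, 3],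
  [0, 0, 1, 1, 1, 1, 1, 0, 0, -1, 0, -1, -1, -2, 0, -1, 0, -1, -2, -1, -1, -1, -1, 4],
  [0, 0, -1, -1, 0, -1, -2, -2, -1, -1, -1, 2, 2, 2, 3, 3, 1, 2, 4, 3, 3, 3, 2, -12],
  [1, 1, -1, 0, 1, 1, 0, 0, 0, 1, 0, 0, -1, -1, -2, 0, -2, -2, 0, -2, -1, -1, -1, 6],
  [1, 1, 0, 1, 0, 0, 0, -1, 0, 1, 0, 0, -1, -1, -1, 0, -1, -1, 0, -1, 0, -1, -2, 4],
  [0, 0, -1, 0, 0, 0, -1, -1, 1, 0, -1, 1, 1, 0, 1, 1, 0, 0, 1, 0, 1, 0, 1, -2],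
  [1, 2, 0, 1, 1, 0, 0, 0, 1, 1, 0, -1, -2, -2, -2, -1, -3, -2, -1, -3, -1, -1, -2, 9],
  [1, 1, 0, 1, 0, 0, -1, 0, 0, 0, 0, 0, -2, -1, -1, 0, -1, -1, 0, -1, 0, 0, -1, 4],
  [1, 1, 0, 0, 0, 1, -1, 0, 0, 0, 0, 0, -1, -1, -1, 0, -1, -1, 0, 0, 0, 0, 0, 2],
  [1, 1, 0, 0, 0, 1, -1, -1, 0, 1, -1, 0, 0, -1, -1, 1, -1, -1, 0, 0, 0, 0, -1, 2],
  [0, 1, 0, 1, 0, 1, -1, 0, 0, 1, 0, 0, -1, -1, -1, 0, -1, -2, 0, -1, -1, -1, -1, 5],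
  [0, 0, -1, 0, 0, 0, -1, -1, -1, 0, -1, 1, 1, 1, 1, 3, 1, 0, 2, 1, 2, 1, 1, -6],
  [1, 0, -1, 0, -1, 0, -1, -1, 0, 0, -1, 1, 1, 1, 1, 2, 0, 0, 1, 1, 2, 1, 0, -4],
  [1, 1, -1, 0, 0, 0, -2, -1, 0, 1, -1, 1, 0, 0, 0, 2, -1, -1, 2, 0, 1, 1, 0, -1]]

noncomputable def W1 : List (List ℤ) :=
  [[0, 0, 0, 1, -1, 0, 0, 0, 0, -1, -1, 1, -1, -1, -1, -1, -2, -1, 0, -1, -1, -1, -1, -2],
  [0, 0, -1, 0, 0, 0, -1, -1, -1, -1, -1, 0, 0, 0, 0, -1, -1, 0, -1, -1, -1, -1, -1, -1],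
  [0, 0, 0, 0, 0, 1, -1, 0, 0, -1, 0, 1, 0, 0, 0, -1, -1, -1, 0, -1, 0, -1, -1, -1],
  [0, -1, 0, -1, -1, 0, -1, -1, -2, -2, -1, -1, 0, 0, 0, 0, -1, 0, 0, -1, 0, -1, 0, 0],
  [0, 0, 0, 0, 0, 0, -1, -1, -1, -2, -1, -1, 1, 1, 0, 0, 0, 0, 1, 0, 0, 0, 0, 1],
  [0, 0, 0, 0, -1, 0, -1, 0, -1, -1, -1, 1, -1, -1, -1, -1, -1, -1, 0, -2, -1, -2, -1, -2],
  [0, 0, 0, 0, 0, 0, -1, 0, 0, 0, -1, 1, -1, -1, -1, -1, -1, -1, -1, -1, 0, -2, -1, -2],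
  [0, 0, 0, 0, 0, 0, -1, -1, -1, -1, -1, 0, 0, 0, 0, -1, 0, 0, 0, 0, 0, -1, 0, 0],
  [-1, 0, 0, 0, 0, 0, -1, -1, -1, -1, -1, 0, 0, 0, -1, -1, -1, -1, -1, -1, 0, -1, 0, -1],
  [-1, 0, 0, 0, -1, -1, -1, -1, -1, -2, -1, 0, 0, 0, -1, 0, -1, -1, -1, -1, -1, -1, -1, -1],
  [-1, 1, 0, 0, 0, -1, -1, -1, 0, -1, -1, 1, -1, 0, -1, -1, -1, -2, -1, -1, -1, -2, -1, -2],
  [-1, -1, -1, -1, -1, -1, -1, -1, -2, -2, -1, -1, 0, -1, 0, -1, -1, -1, -1, -1, -1, -1, -1, -1],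
  [1, 1, 1, 1, 1, 1, 0, 0, 1, 0, 0, 1, 0, 1, 0, 0, 0, 0, 1, 0, 0, 0, 0, 0],
  [1, 0, 0, 0, 0, 1, 0, 0, 0, 0, 0, 1, 0, 0, 0, 0, 0, 0, 1, -1, 0, 0, 0, 0],
  [1, 1, 0, 1, 0, 0, 0, 0, 1, 1, 0, 2, -1, -1, -1, -1, 0, -1, 0, -1, -1, -1, -1, -2],
  [0, 0, 0, 0, 0, 0, -1, -1, 1, 0, -1, 1, -1, 0, -1, -1, 0, -1, 0, -1, 0, -1, 0, -1],
  [0, 1, 1, 1, 0, 0, 0, 0, 1, 0, 0, 1, 0, 0, -1, 0, -1, -1, 0, -1, 0, 0, 0, -1],
  [0, -1, 0, 0, -1, 0, -1, -1, 0, -1, -1, 0, -1, 0, -1, 0, 0, 0, 1, -1, 0, 0, 0, 0],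
  [1, 1, 1, 1, 0, 1, 0, 1, 1, 1, 0, 2, -1, -1, -1, -1, -1, -1, 0, -1, 0, -1, 0, -2],
  [0, 0, 0, 0, 0, 0, -1, -1, 0, 0, -1, 0, 0, 0, -1, 0, 0, 0, 0, 0, 0, 0, 0, 0],
  [0, 1, 1, 1, 0, 1, 0, 0, 1, 0, 0, 1, 0, 1, 0, 0, 0, -1, 1, 0, 0, 0, 0, 0],
  [0, 1, 1, 0, 0, 0, 0, 0, 1, 0, 0, 1, -1, 0, -1, 1, 0, -1, 0, -1, 0, -1, 0, -1],
  [0, 0, 0, 0, -1, 1, 0, 0, 1, 0, 0, 1, -1, 0, 0, 0, -1, -1, 0, -1, 0, 0, -1, -1],
  [1, 1, 1, 1, 0, 1, 0, 0, 2, 1, 0, 2, -1, 0, -1, 0, 0, -1, 1, -1, 0, 0, 0, -1]]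

theorem iso1 : chkIso C1 W1 = true :=
  by decide +kernel

theorem rep1 : ∃ g ∈ centralizer ({permHom (mc x2)} : Set Co0), RepBy 256 (lpt 256 P []) g (wp ns [2]) :=
  rep_cent ctx x_eq iso1 (by decide +kernel)

theorem reps : Reps 256 (lpt 256 P []) (centralizer {permHom (mc x2)}) ns G_ss0 :=
  Reps.cons rep0 (Reps.cons rep1 (Reps.nil))

theorem inj : ∀ i < 256, ∀ j < 256, lpt 256 P [] i = lpt 256 P [] j → i = j :=
  inj_of_reps ctx reps [0, 1, 2] 7 (by decide +kernel)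

noncomputable def FA : List (List ℤ) :=
  [[1, 0, 1, 1, 1, 1, 1, 0, 1, 1, 0, 0, 0, 0, 0, 1, 0, 0, 1, 0, 0, 0, 0, 1],
  [1, 1, 0, 1, 1, 1, 1, 1, 1, 1, 1, 0, 1, 0, 1, 0, 1, 1, 1, 1, 1, 1, 0, 1],
  [1, 0, 0, 0, 0, 0, 1, 1, 0, 0, 0, 0, 1, 0, 1, 1, 0, 1, 1, 1, 0, 0, 1, 1],
  [0, 0, 0, 0, 1, 0, 0, 0, 1, 0, 1, 0, 1, 1, 0, 1, 1, 0, 0, 1, 1, 1, 0, 1],
  [1, 1, 1, 1, 1, 0, 0, 0, 1, 1, 0, 0, 0, 0, 1, 1, 0, 0, 0, 0, 0, 1, 0, 0],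
  [0, 0, 0, 1, 0, 0, 1, 1, 1, 0, 1, 0, 1, 1, 1, 0, 1, 1, 0, 0, 1, 0, 1, 1],
  [0, 0, 0, 0, 0, 0, 0, 1, 1, 0, 0, 0, 0, 0, 0, 1, 0, 0, 1, 1, 1, 0, 0, 0],
  [0, 0, 0, 0, 0, 0, 1, 0, 0, 1, 1, 0, 0, 0, 1, 1, 1, 0, 0, 1, 1, 1, 1, 1],
  [1, 1, 1, 1, 1, 1, 0, 1, 0, 1, 1, 0, 1, 0, 1, 0, 0, 1, 0, 0, 1, 0, 0, 1],
  [1, 1, 1, 1, 1, 1, 0, 1, 0, 1, 0, 0, 1, 0, 0, 1, 0, 1, 0, 0, 0, 1, 0, 1],
  [1, 1, 1, 1, 1, 1, 0, 0, 0, 1, 1, 0, 1, 0, 0, 1, 0, 0, 0, 0, 0, 0, 0, 1],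
  [0, 0, 0, 0, 0, 0, 0, 0, 0, 0, 0, 1, 1, 0, 1, 1, 0, 1, 1, 1, 1, 0, 0, 1],
  [0, 0, 0, 0, 0, 0, 0, 0, 0, 0, 0, 0, 1, 0, 1, 1, 0, 1, 0, 1, 1, 0, 0, 1],
  [0, 0, 0, 0, 0, 0, 0, 0, 0, 0, 0, 0, 1, 0, 1, 1, 0, 1, 1, 1, 0, 0, 0, 1],
  [0, 0, 0, 0, 0, 0, 0, 0, 0, 0, 0, 0, 0, 0, 1, 1, 0, 1, 1, 1, 1, 0, 0, 1],
  [0, 0, 0, 0, 0, 0, 0, 0, 0, 0, 0, 0, 1, 0, 1, 1, 0, 1, 1, 1, 1, 1, 0, 1],
  [0, 0, 0, 0, 0, 0, 0, 0, 0, 0, 0, 0, 1, 1, 1, 0, 1, 0, 1, 1, 1, 1, 1, 0],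
  [0, 0, 0, 0, 0, 0, 0, 0, 0, 0, 0, 0, 0, 0, 0, 0, 1, 1, 1, 1, 0, 1, 0, 0],
  [0, 0, 0, 0, 0, 0, 0, 0, 0, 0, 0, 0, 1, 0, 0, 1, 0, 1, 1, 1, 1, 0, 0, 1],
  [0, 0, 0, 0, 0, 0, 0, 0, 0, 0, 0, 0, 1, 0, 1, 1, 0, 0, 1, 1, 1, 0, 0, 1],
  [0, 0, 0, 0, 0, 0, 0, 0, 0, 0, 0, 0, 1, 0, 0, 0, 0, 1, 0, 0, 1, 1, 1, 0],
  [0, 0, 0, 0, 0, 0, 0, 0, 0, 0, 0, 0, 1, 1, 1, 0, 1, 1, 0, 0, 0, 1, 0, 1],
  [0, 0, 0, 0, 0, 0, 0, 0, 0, 0, 0, 0, 1, 0, 1, 1, 1, 1, 1, 1, 1, 0, 0, 1],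
  [0, 0, 0, 0, 0, 0, 0, 0, 0, 0, 0, 0, 0, 0, 0, 0, 0, 0, 0, 0, 0, 0, 0, 1]]

noncomputable def FB : List (List ℤ) :=
  [[0, 0, 0, 1, 0, 0, 0, 0],
  [0, 1, 1, 1, 1, 0, 0, 1],
  [1, 1, 1, 0, 0, 1, 0, 0],
  [1, 0, 0, 0, 1, 0, 0, 1],
  [1, 1, 1, 1, 1, 1, 1, 1],
  [0, 0, 0, 1, 0, 1, 0, 0],
  [1, 0, 0, 1, 1, 1, 0, 1],
  [0, 0, 0, 1, 0, 0, 1, 1],
  [1, 1, 1, 1, 0, 1, 0, 0],
  [0, 1, 1, 1, 0, 1, 1, 0],
  [1, 0, 0, 1, 1, 1, 0, 1],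
  [1, 0, 1, 0, 0, 1, 1, 0],
  [1, 0, 0, 0, 0, 1, 1, 0],
  [1, 0, 0, 1, 1, 0, 0, 1],
  [1, 0, 0, 0, 0, 1, 1, 0],
  [0, 0, 0, 1, 1, 1, 1, 0],
  [1, 1, 1, 0, 0, 0, 1, 1],
  [0, 1, 1, 1, 1, 0, 1, 1],
  [1, 0, 0, 0, 0, 1, 1, 0],
  [0, 1, 1, 1, 1, 0, 1, 1],
  [1, 0, 0, 1, 1, 0, 0, 1],
  [0, 0, 0, 1, 1, 1, 1, 0],
  [1, 1, 1, 0, 0, 0, 1, 1],
  [0, 0, 0, 0, 0, 0, 0, 1]]

noncomputable def FF : List (List ℤ) :=
  [[0, 0, 0, 1, 1, 1, 1, 0, 0, 0, 1, 0, 1, 1, 0, 1, 1, 0, 0, 0, 0, 0, 0, 0],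
  [1, 1, 1, 1, 1, 1, 0, 0, 1, 0, 0, 1, 0, 0, 1, 0, 0, 1, 0, 0, 0, 0, 0, 0],
  [0, 0, 0, 0, 0, 0, 0, 0, 0, 0, 0, 1, 1, 0, 1, 0, 0, 0, 1, 0, 0, 0, 0, 0],
  [1, 1, 1, 0, 0, 0, 0, 1, 0, 1, 1, 0, 1, 0, 1, 1, 0, 0, 0, 1, 0, 0, 0, 0],
  [1, 1, 1, 1, 1, 1, 1, 1, 0, 1, 0, 0, 1, 0, 0, 0, 0, 0, 0, 0, 1, 0, 0, 0],
  [1, 1, 1, 1, 1, 1, 0, 0, 1, 0, 0, 0, 0, 1, 1, 1, 0, 0, 0, 0, 0, 1, 0, 0],
  [1, 1, 1, 0, 0, 0, 1, 0, 1, 0, 1, 0, 1, 0, 0, 1, 0, 0, 0, 0, 0, 0, 1, 0],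
  [0, 0, 0, 0, 0, 0, 0, 0, 0, 0, 0, 0, 0, 0, 0, 0, 0, 0, 0, 0, 0, 0, 0, 1]]

theorem hF0 : (Fx (permHom (mc x2))).Finite ∧ (Fx (permHom (mc x2))).ncard ≤ 256 :=
  x_eq ▸ Fx_le (n := 8) (A := FA) (B := FB) (F := FF) isoX (by decide +kernel)

theorem hx : RepBy 256 (lpt 256 P []) (permHom (mc x2)) 1 :=
  rep_self ctx x_eq (by decide +kernel)

theorem hF : Fx (permHom (mc x2)) = lpt 256 P [] '' Set.Iio 256 ∧ (Fx (permHom (mc x2))).ncard = 256 :=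
  Fx_eq inj hx hF0

noncomputable def D4 : ℕ :=
  nat_lit 0x2728be4e7d721bebe4eb8272beb127d71b148272414e27d7d8d7be4e828d1bea

theorem hT : ∀ i < 256, (lpt 256 P [] i ∈ T4 ↔ D4.testBit i = true) :=
  fun _ => T4_iff ctx reps (a := [(1, [0, 0, 0, -1, -1, -1, -1, 0, 0, 0, -1, 0, 1, 1, 2, 1, 1, 2, 2, 2, 2, 2, 2, -8])])
    (b := [(0, [0, 0, 0, 0, 0, 0, 0, 0, 0, 0, 0, 0, 0, 0, 0, 0, 0, 0, 0, 0, 0, 0, 0, 0]), (2, [-1, -1, -1, -1, -1, -1, -2, -2, -1, -2, -2, 3, 4, 2, 5, 4, 4, 3, 4, 4, 4, 4, 4, -18])]) (r := 7) (by decide +kernel)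

theorem nT : (Fx (permHom (mc x2)) ∩ T4).ncard = 135 :=
  ncard_Fx_T4 ctx inj hF.1 hT (by decide +kernel)

theorem nI : {o : Finset GolayPt | o ∈ GC ∧ mc x2 • o = o}.ncard = 16 :=
  ncard_inv_code okM_x2 (by decide +kernel)

theorem ho : orderOf (permHom (mc x2)) = 3 :=
  (orderOf_permHom _).trans orderOf_x2

theorem hC : Nat.card (centralizer ({permHom (mc x2)} : Set Co0)) ≤ 2 * orderOf (permHom (mc x2)) * 181440 :=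
  ho ▸ card_cent_le (frOrb_le hF0.1 nT) nI cent_x2

theorem model : Nat.card (gen ns G_ss0) = 181440 ∧ ∃ ρ : centralizer ({permHom (mc x2)} : Set Co0) →* gen ns G_ss0,
    Function.Surjective ρ ∧ (∀ g, ρ g = 1 ↔ (g : Co0) ∈ zpowers (negOne * permHom (mc x2))) ∧
    ∀ g : centralizer ({permHom (mc x2)} : Set Co0), RepBy 256 (lpt 256 P []) (g : Co0) (ρ g : Equiv.Perm ℕ) :=
  exists_model (ho ▸ by decide) reps inj hx G_lb hC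

theorem G_card : Nat.card (gen ns G_ss0) = 181440 :=
  model.1

theorem G_eq : gen ns G_ss0 = cgrp ns G_C0 :=
  eq_of_le_of_lb ctx G_le0 G_card G_lb0

theorem G_card0 : Nat.card (cgrp ns G_C0) = 181440 :=
  G_eq ▸ G_card

theorem G_st0 : IsStab 256 (gen ns G_l0.ws) (cgrp ns G_C1) G_l0.b G_D0 :=
  isStab_known ctx G_card0 G_lb1 G_lv0 (by decide +kernel)

theorem G_card1 : Nat.card (cgrp ns G_C1) = 1344 :=
  card_step ctx G_st0 G_card0 (by decide +kernel)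

theorem G_st1 : IsStab 256 (gen ns G_l1.ws) (cgrp ns G_C2) G_l1.b G_D1 :=
  isStab_known ctx G_card1 G_lb2 G_lv1 (by decide +kernel)

theorem G_card2 : Nat.card (cgrp ns G_C2) = 24 :=
  card_step ctx G_st1 G_card1 (by decide +kernel)

theorem G_st2 : IsStab 256 (gen ns G_l2.ws) (cgrp ns G_C3) G_l2.b G_D2 :=
  isStab_known ctx G_card2 G_lb3 G_lv2 (by decide +kernel)

theorem G_ver3 : Ver ns G_C3 1 :=
  ver_nil _

theorem G_ver2 : Ver ns G_C2 24 :=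
  G_ver3.cons ctx G_st2 (by decide +kernel)

theorem G_ver1 : Ver ns G_C1 1344 :=
  G_ver2.cons ctx G_st1 (by decide +kernel)

theorem G_ver0 : Ver ns G_C0 181440 :=
  G_ver1.cons ctx G_st0 (by decide +kernel)

theorem faithful : FaithfulOn 256 (gen ns G_l0.ws) G_D0 :=
  (G_st0.faithfulOn (by decide +kernel) (G_st1.faithfulOn (by decide +kernel) (G_st2.faithfulOn (by decide +kernel) (cgrp_nil ns ▸ faithfulOn_bot _ _))))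

theorem o2 : ∀ T : Subgroup (gen ns G_ss0), T.Normal → IsPGroup 2 T → T = ⊥ :=
  by
  have : Finite (cgrp ns G_C0) := finite_gen ctx.ok _
  rw [G_eq]
  exact two_eq_bot G_st0 faithful (by rw [← pcN_eq ctx.le]; decide +kernel)

theorem cdata0 : ∃ ρ : centralizer ({permHom (mc x2)} : Set Co0) →* gen ns G_ss0, CData (permHom (mc x2)) 256 ρ :=
  model.2.imp fun _ h => cdata_of (ho ▸ by decide) inj hF h o2

noncomputable def ans_0 : Net :=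
 (Net.cons (nat_lit 8) 16
 (Net.cons (nat_lit 4) 268
 (Net.cons (nat_lit 2) 1
 (Net.cons (nat_lit 1) 65
 (Net.cons (nat_lit 2) 32
 (Net.cons (nat_lit 4) 8
 (Net.cons (nat_lit 8) 16
 Net.nil)))))))

noncomputable def ans_1 : Net :=
 (Net.cons (nat_lit 8) 255
 (Net.cons (nat_lit 4) 1280
 (Net.cons (nat_lit 2) 4096
 (Net.cons (nat_lit 1) 1280
 (Net.cons (nat_lit 4) 2560
 (Net.cons (nat_lit 8) 254
 Net.nil))))))

noncomputable def ans_2 : Net :=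
 (Net.cons (nat_lit 8) 246
 (Net.cons (nat_lit 4) 3328
 (Net.cons (nat_lit 2) 12544
 (Net.cons (nat_lit 1) 16640
 (Net.cons (nat_lit 2) 8704
 (Net.cons (nat_lit 4) 3072
 (Net.cons (nat_lit 8) 246
 Net.nil)))))))

noncomputable def ans_3 : Net :=
 (Net.cons (nat_lit 8) 252
 (Net.cons (nat_lit 4) 1792
 (Net.cons (nat_lit 2) 256
 (Net.cons (nat_lit 1) 1280
 (Net.cons (nat_lit 4) 2560
 (Net.cons (nat_lit 8) 252
 Net.nil))))))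

noncomputable def ans_4 : Net :=
 (Net.cons (nat_lit 4) 6
 (Net.cons (nat_lit 2) 50
 (Net.cons (nat_lit 1) 16
 (Net.cons (nat_lit 2) 32
 (Net.cons (nat_lit 4) 14
 Net.nil)))))

noncomputable def ans_5 : Net :=
 (Net.cons (nat_lit 8) 80
 (Net.cons (nat_lit 4) 256
 (Net.cons (nat_lit 2) 4096
 (Net.cons (nat_lit 8) 80
 Net.nil))))

noncomputable def ans_6 : Net :=
 (Net.cons (nat_lit 8) 192
 (Net.cons (nat_lit 4) 3080
 (Net.cons (nat_lit 2) 256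
 (Net.cons (nat_lit 1) 1040
 (Net.cons (nat_lit 2) 32
 (Net.cons (nat_lit 4) 3080
 (Net.cons (nat_lit 8) 192
 Net.nil)))))))

noncomputable def ans_7 : Net :=
 (Net.cons (nat_lit 8) 240
 (Net.cons (nat_lit 4) 256
 (Net.cons (nat_lit 2) 12288
 (Net.cons (nat_lit 1) 16384
 (Net.cons (nat_lit 8) 240
 Net.nil)))))

noncomputable def ans_8 : Net :=
 (Net.cons (nat_lit 8) 16
 (Net.cons (nat_lit 4) 256
 (Net.cons (nat_lit 2) 32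
 (Net.cons (nat_lit 1) 64
 (Net.cons (nat_lit 2) 32
 (Net.cons (nat_lit 8) 16
 Net.nil))))))

noncomputable def ans_9 : Net :=
 (Net.cons (nat_lit 8) 192
 (Net.cons (nat_lit 4) 3072
 (Net.cons (nat_lit 2) 768
 (Net.cons (nat_lit 1) 256
 (Net.cons (nat_lit 2) 512
 (Net.cons (nat_lit 4) 3072
 (Net.cons (nat_lit 8) 192
 Net.nil)))))))

noncomputable def ans_10 : Net :=
 (Net.cons (nat_lit 8) 160
 (Net.cons (nat_lit 4) 2560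
 (Net.cons (nat_lit 1) 256
 (Net.cons (nat_lit 2) 512
 (Net.cons (nat_lit 4) 2560
 (Net.cons (nat_lit 8) 160
 Net.nil))))))

noncomputable def ans : List Net := [ans_0, ans_1, ans_2, ans_3, ans_4, ans_5, ans_6, ans_7, ans_8, ans_9, ans_10]

theorem actx : Ctx 16 4 ans := ctx_of (by decide +kernel)

noncomputable def A_C7 : List Lvl :=
  []

noncomputable def A_ss6 : List (List ℕ) :=
  [[19]]

noncomputable def A_D6 : ℕ :=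
  448

noncomputable def A_l6 : Lvl :=
  ⟨6, [[19]],
  tabA [(7, 1536), (8, 1537)], 1⟩

noncomputable def A_C6 : List Lvl :=
  A_l6 :: A_C7

noncomputable def A_ss5 : List (List ℕ) :=
  [[18], [20]]

noncomputable def A_D5 : ℕ :=
  480

noncomputable def A_l5 : Lvl :=
  ⟨5, [[18], [20], [19]],
  tabA [(7, 1282), (8, 1283), (6, 1792)], 2⟩

noncomputable def A_C5 : List Lvl :=
  A_l5 :: A_C6

noncomputable def A_ss4 : List (List ℕ) :=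
  [[14], [16]]

noncomputable def A_D4 : ℕ :=
  496

noncomputable def A_l4 : Lvl :=
  ⟨4, [[14], [16], [18], [20], [19]],
  tabA [(6, 1024), (8, 1025), (5, 1536), (7, 1541)], 2⟩

noncomputable def A_C4 : List Lvl :=
  A_l4 :: A_C5

noncomputable def A_ss3 : List (List ℕ) :=
  [[10], [12]]

noncomputable def A_D3 : ℕ :=
  504

noncomputable def A_l3 : Lvl :=
  ⟨3, [[10], [12], [14], [16], [18], [20], [19]],
  tabA [(4, 770), (5, 771), (6, 1024), (8, 1025), (7, 1284)], 2⟩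

noncomputable def A_C3 : List Lvl :=
  A_l3 :: A_C4

noncomputable def A_ss2 : List (List ℕ) :=
  [[8], [6]]

noncomputable def A_D2 : ℕ :=
  508

noncomputable def A_l2 : Lvl :=
  ⟨2, [[8], [6], [10], [12], [14], [16], [18], [20], [19]],
  tabA [(4, 512), (3, 513), (6, 515), (7, 1024), (8, 1026), (5, 1030)], 2⟩

noncomputable def A_C2 : List Lvl :=
  A_l2 :: A_C3

noncomputable def A_ss1 : List (List ℕ) :=
  [[4], [6]]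

noncomputable def A_D1 : ℕ :=
  510

noncomputable def A_l1 : Lvl :=
  ⟨1, [[4], [8], [6], [10], [12], [14], [16], [18], [20], [19]],
  tabA [(7, 256), (8, 257), (6, 1792), (5, 1794), (4, 1795), (3, 1797), (2, 1540)], 3⟩

noncomputable def A_C1 : List Lvl :=
  A_l1 :: A_C2

noncomputable def A_ss0 : List (List ℕ) :=
  [[0], [2]]

noncomputable def A_D0 : ℕ :=
  511

noncomputable def A_l0 : Lvl :=
  ⟨0, [[0], [2], [4], [8], [6], [10], [12], [14], [16], [18], [20], [19]],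
  tabA [(1, 0), (2, 1), (8, 2), (6, 3), (5, 258), (7, 260), (3, 514), (4, 515)], 2⟩

noncomputable def A_C0 : List Lvl :=
  A_l0 :: A_C1

theorem A_lb7 : 1 ≤ Nat.card (cgrp ans A_C7) :=
  lb_nil _

theorem A_le6 : gen ans A_l6.ws ≤ gen ans A_ss6 :=
  gen_le_step actx (tgt := [])
  (es := []) (le_refl (gen _ [])) (by decide +kernel)

theorem A_lv6 : chkLvl 16 ans A_l6 A_C7 A_D6 2 = true :=
  by decide +kernel

theorem A_lb6 : 3 ≤ Nat.card (cgrp ans A_C6) :=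
  lb_step actx A_lv6 A_lb7 (by decide +kernel)

theorem A_le5 : gen ans A_l5.ws ≤ gen ans A_ss5 :=
  gen_le_step actx (tgt := [[19]])
  (es := [([19], [2, 1, 3, 0, 2, 0, 0, 3])]) A_le6 (by decide +kernel)

theorem A_lv5 : chkLvl 16 ans A_l5 A_C6 A_D5 2 = true :=
  by decide +kernel

theorem A_lb5 : 12 ≤ Nat.card (cgrp ans A_C5) :=
  lb_step actx A_lv5 A_lb6 (by decide +kernel)

theorem A_le4 : gen ans A_l4.ws ≤ gen ans A_ss4 :=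
  gen_le_step actx (tgt := [[18], [20]])
  (es := [([18], [2, 1]), ([20], [2, 5, 3, 3, 4, 2])]) A_le5 (by decide +kernel)

theorem A_lv4 : chkLvl 16 ans A_l4 A_C5 A_D4 2 = true :=
  by decide +kernel

theorem A_lb4 : 60 ≤ Nat.card (cgrp ans A_C4) :=
  lb_step actx A_lv4 A_lb5 (by decide +kernel)

theorem A_le3 : gen ans A_l3.ws ≤ gen ans A_ss3 :=
  gen_le_step actx (tgt := [[14], [16]])
  (es := [([14], [0, 2, 1, 1, 3]), ([16], [5, 3, 4, 4, 2, 2, 4, 2, 4, 2])]) A_le4 (by decide +kernel)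

theorem A_lv3 : chkLvl 16 ans A_l3 A_C4 A_D3 2 = true :=
  by decide +kernel

theorem A_lb3 : 360 ≤ Nat.card (cgrp ans A_C3) :=
  lb_step actx A_lv3 A_lb4 (by decide +kernel)

theorem A_le2 : gen ans A_l2.ws ≤ gen ans A_ss2 :=
  gen_le_step actx (tgt := [[10], [12]])
  (es := [([10], [1, 3, 3, 0, 0, 0]), ([12], [5, 3, 4, 2, 5])]) A_le3 (by decide +kernel)

theorem A_lv2 : chkLvl 16 ans A_l2 A_C3 A_D2 1 = true :=
  by decide +kernel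

theorem A_lb2 : 2520 ≤ Nat.card (cgrp ans A_C2) :=
  lb_step actx A_lv2 A_lb3 (by decide +kernel)

theorem A_le1 : gen ans A_l1.ws ≤ gen ans A_ss1 :=
  gen_le_step actx (tgt := [[8], [6]])
  (es := [([8], [1, 1, 3, 3, 0, 3, 0, 3, 3]), ([6], [4])]) A_le2 (by decide +kernel)

theorem A_lv1 : chkLvl 16 ans A_l1 A_C2 A_D1 2 = true :=
  by decide +kernel

theorem A_lb1 : 20160 ≤ Nat.card (cgrp ans A_C1) :=
  lb_step actx A_lv1 A_lb2 (by decide +kernel)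

theorem A_le0 : gen ans A_l0.ws ≤ gen ans A_ss0 :=
  gen_le_step actx (tgt := [[4], [6]])
  (es := [([4], [2, 0, 0]), ([6], [4, 3, 5, 5, 2, 2])]) A_le1 (by decide +kernel)

theorem A_lv0 : chkLvl 16 ans A_l0 A_C1 A_D0 2 = true :=
  by decide +kernel

theorem A_lb0 : 181440 ≤ Nat.card (cgrp ans A_C0) :=
  lb_step actx A_lv0 A_lb1 (by decide +kernel)

theorem A_lb : 181440 ≤ Nat.card (gen ans A_ss0) :=
  lb_of_le actx A_le0 A_lb0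

noncomputable def Ms : ℕ → ℕ :=
  getL 0 [nat_lit 0x3c003c0000000000000000000000000000000000000000c30000000000c2,
 nat_lit 0x606000009090000000000000000000000000060600000908,
 nat_lit 0x1221000000000000211200000000000021120000000000001220,
 nat_lit 0x8000801000100000200020400040002000200000400040800080000010000,
 nat_lit 0x2000800000020008008000200800020000100040010004004000100000040000,
 nat_lit 0x400020000200040040002000020004010008000000800011000800000080000,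
 nat_lit 0x20000400400002000800100001008000040020000200400010000800800000,
 nat_lit 0x100000240000080800000400200000101000002400000808000004002000000,
 nat_lit 0x200004000100800000180002000000408000010004002000004200080000000]

theorem eqv : Nonempty (gen ns G_ss0 ≃* gen ans A_ss0) :=
  by
  have := finite_gen ctx.ok G_ss0
  obtain ⟨e, -⟩ := exists_equiv_masks' ctx actx (K := gen ns G_ss0) (us := G_ss0) (ws' := A_ss0) le_rfl (n := 9) (M := Ms)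
    [0] 3 (by decide +kernel) (G_card.trans_le A_lb)
  exact ⟨e⟩

theorem trep0 : ∃ g ∈ (alternatingGroup (Fin 9)), RepBy 9 (Fin.ofNat 9) g (wp ans [0]) :=
  rep_small actx (⟨![1, 6, 0, 5, 8, 2, 3, 7, 4], ![2, 0, 5, 6, 8, 3, 1, 7, 4], by decide, by decide⟩ : Equiv.Perm (Fin 9))
    (Equiv.Perm.mem_alternatingGroup.2 (by decide +kernel)) [1, 6, 0, 5, 8, 2, 3, 7, 4] (by decide +kernel) (by decide +kernel)

theorem trep1 : ∃ g ∈ (alternatingGroup (Fin 9)), RepBy 9 (Fin.ofNat 9) g (wp ans [2]) :=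
  rep_small actx (⟨![8, 5, 3, 7, 2, 4, 0, 6, 1], ![6, 8, 4, 2, 5, 1, 7, 3, 0], by decide, by decide⟩ : Equiv.Perm (Fin 9))
    (Equiv.Perm.mem_alternatingGroup.2 (by decide +kernel)) [8, 5, 3, 7, 2, 4, 0, 6, 1] (by decide +kernel) (by decide +kernel)

theorem treps : Reps 9 (Fin.ofNat 9) (alternatingGroup (Fin 9)) ans A_ss0 :=
  Reps.cons trep0 (Reps.cons trep1 (Reps.nil))

theorem cdata : ∃ ρ : centralizer ({permHom (mc x2)} : Set Co0) →* alternatingGroup (Fin 9), CData (permHom (mc x2)) 256 ρ :=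
  by
  obtain ⟨ρ, h⟩ := cdata0
  obtain ⟨e⟩ := eqv
  obtain ⟨e', -⟩ := treps.exists_equiv (Subgroup.subtype _) fin9_inj (by simp) (((card_alt (n := 7) (m := 181440) (by decide)).le).trans A_lb)
  exact ⟨_, h.of_equiv (e.trans e'.symm)⟩

end Cfsg.Agent.Mont.C3B
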