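import Cfsg.Agent.Mont.Cent
import Cfsg.Agent.Mont.M24c
import Cfsg.Agent.Mont.Tgt

set_option autoImplicit false
set_option maxRecDepth 4096

namespace Cfsg.Agent.Mont.C7

open Cfsg.Agent.Comp

noncomputable def ns_0 : Net :=
 (Net.cons (nat_lit 32) (nat_lit 0xffff00)
 (Net.cons (nat_lit 16) (nat_lit 0xf0f00000f0f0)
 (Net.cons (nat_lit 8) (nat_lit 0x69009600690096)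
 (Net.cons (nat_lit 4) (nat_lit 0xf0f00000f0f00)
 (Net.cons (nat_lit 2) (nat_lit 0x2121121221211212)
 (Net.cons (nat_lit 4) (nat_lit 0xc0c0c0c0c0c0c0c)
 (Net.cons (nat_lit 16) (nat_lit 0xff000000ff00)
 Net.nil)))))))

noncomputable def ns_1 : Net :=
 (Net.cons (nat_lit 32) (nat_lit 0x3c3c3c3c)
 (Net.cons (nat_lit 16) (nat_lit 0xc33c0000c33c)
 (Net.cons (nat_lit 8) (nat_lit 0xa500a5005a005a)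
 (Net.cons (nat_lit 4) (nat_lit 0x609060909060906)
 (Net.cons (nat_lit 2) (nat_lit 0x1111111122222222)
 (Net.cons (nat_lit 1) (nat_lit 0x1144114411441144)
 (Net.cons (nat_lit 8) (nat_lit 0xf000f000f000f0)
 (Net.cons (nat_lit 32) (nat_lit 0xff00ff00)
 Net.nil))))))))

noncomputable def ns_2 : Net :=
 (Net.cons (nat_lit 32) (nat_lit 0x3333cccc)
 (Net.cons (nat_lit 16) (nat_lit 0x699600006996)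
 (Net.cons (nat_lit 8) (nat_lit 0xcc00cc00cc00cc)
 (Net.cons (nat_lit 4) (nat_lit 0x906090609060906)
 (Net.cons (nat_lit 2) (nat_lit 0x1221211212212112)
 (Net.cons (nat_lit 4) (nat_lit 0xc0c0c0c0c0c0c0c)
 (Net.cons (nat_lit 8) (nat_lit 0xf000f000f000f0)
 Net.nil)))))))

noncomputable def ns_3 : Net :=
 (Net.cons (nat_lit 32) (nat_lit 0xc3c33c3c)
 (Net.cons (nat_lit 8) (nat_lit 0xff000000ff0000)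
 (Net.cons (nat_lit 4) (nat_lit 0xc0c0c0c0c0c0c0c)
 (Net.cons (nat_lit 2) (nat_lit 0x303303003033030)
 (Net.cons (nat_lit 4) (nat_lit 0xc0c0c0c0c0c0c0c)
 Net.nil)))))

noncomputable def ns_4 : Net :=
 (Net.cons (nat_lit 32) (nat_lit 0x96969696)
 (Net.cons (nat_lit 8) (nat_lit 0xaa00aa00aa00aa)
 (Net.cons (nat_lit 4) (nat_lit 0xa0a0a0a0a0a0a0a)
 (Net.cons (nat_lit 2) (nat_lit 0x2222222222222222)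
 Net.nil))))

noncomputable def ns : List Net := [ns_0, ns_1, ns_2, ns_3, ns_4]

theorem ctx : Ctx 64 6 ns := ctx_of (by decide +kernel)

open Subgroup Cfsg Cfsg.Spor Cfsg.Agent.Spor Cfsg.Agent.Spor.Leech Cfsg.Agent.Spor.M24C
open scoped Pointwise

noncomputable def G_C3 : List Lvl :=
  []

noncomputable def G_ss2 : List (List ℕ) :=
  [[6], [8]]

noncomputable def G_D2 : ℕ :=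
  nat_lit 0x140000001400

noncomputable def G_l2 : Lvl :=
  ⟨10, [[6], [8]],
  tabA [(44, 2560), (42, 2562), (12, 11266)], 2⟩

noncomputable def G_C2 : List Lvl :=
  G_l2 :: G_C3

noncomputable def G_ss1 : List (List ℕ) :=
  [[1], [4]]

noncomputable def G_D1 : ℕ :=
  nat_lit 0x144000001440

noncomputable def G_l1 : Lvl :=
  ⟨6, [[1], [4], [6], [8]],
  tabA [(10, 1536), (42, 1537), (12, 1538), (38, 2560), (44, 2563)], 2⟩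

noncomputable def G_C1 : List Lvl :=
  G_l1 :: G_C2

noncomputable def G_ss0 : List (List ℕ) :=
  [[0], [2]]

noncomputable def G_D0 : ℕ :=
  nat_lit 0x144100001440

noncomputable def G_l0 : Lvl :=
  ⟨32, [[0], [2], [1], [4], [6], [8]],
  tabA [(10, 8194), (6, 2560), (38, 2561), (44, 2567), (42, 2570), (12, 1542)], 3⟩

noncomputable def G_C0 : List Lvl :=
  G_l0 :: G_C1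

theorem G_lb3 : 1 ≤ Nat.card (cgrp ns G_C3) :=
  lb_nil _

theorem G_le2 : gen ns G_l2.ws ≤ gen ns G_ss2 :=
  gen_le_step ctx (tgt := [])
  (es := []) (le_refl (gen _ [])) (by decide +kernel)

theorem G_lv2 : chkLvl 64 ns G_l2 G_C3 G_D2 1 = true :=
  by decide +kernel

theorem G_lb2 : 4 ≤ Nat.card (cgrp ns G_C2) :=
  lb_step ctx G_lv2 G_lb3 (by decide +kernel)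

theorem G_le1 : gen ns G_l1.ws ≤ gen ns G_ss1 :=
  gen_le_step ctx (tgt := [[6], [8]])
  (es := [([6], [1, 1, 2, 1, 1, 1]), ([8], [3, 3, 3, 3, 3, 3, 4, 2, 4, 3])]) G_le2 (by decide +kernel)

theorem G_lv1 : chkLvl 64 ns G_l1 G_C2 G_D1 2 = true :=
  by decide +kernel

theorem G_lb1 : 24 ≤ Nat.card (cgrp ns G_C1) :=
  lb_step ctx G_lv1 G_lb2 (by decide +kernel)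

theorem G_le0 : gen ns G_l0.ws ≤ gen ns G_ss0 :=
  gen_le_step ctx (tgt := [[1], [4]])
  (es := [([1], [1]), ([4], [5, 3, 3, 4, 4, 2, 5, 2, 4, 3])]) G_le1 (by decide +kernel)

theorem G_lv0 : chkLvl 64 ns G_l0 G_C1 G_D0 2 = true :=
  by decide +kernel

theorem G_lb0 : 168 ≤ Nat.card (cgrp ns G_C0) :=
  lb_step ctx G_lv0 G_lb1 (by decide +kernel)

theorem G_lb : 168 ≤ Nat.card (gen ns G_ss0) :=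
  lb_of_le ctx G_le0 G_lb0

noncomputable def P : ℕ :=
  nat_lit 0xffffffff00000000ffff0000ffff0000ff00ff00ff00ff00f0f0f0f0f0f0f0f0f0f0f0f0f0f0f0f0f00f0ff0f00f0ff0ccccccccccccccccccccccccccccccccff00ff00ff00ff0000ffff0000ffff000ff00ff00ff00ff0c33cc33cc33cc33caaaaaaaaaaaaaaaaf0f0f0f0f0f0f0f0f0f0f0f0f0f0f0f00000000000000000f0f0f0f0f0f0f0f0c3c33c3cc3c33c3c00000000000000000000000000000000000000000000000000000000000000000000000000000000c3c33c3cc3c33c3c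

noncomputable def X : List (List ℤ) :=
  [[1, 0, 0, 0, 0, 0, 0, 1, 0, 1, 0, 0, -1, 0, -1, 0, -1, -1, -1, -1, -1, 0, -1, 4],
  [0, 1, 1, 0, 0, 0, 1, 0, 0, 1, 0, 0, -1, -1, -1, -1, -1, 0, -1, -1, -1, -1, -2, 5],
  [0, 1, 0, 1, 0, 0, 0, 1, 0, 0, 1, 0, -2, -1, -1, -1, -1, -1, -1, -1, -1, -1, -1, 6],
  [0, 1, 0, 0, 1, 0, 1, 1, 0, 0, 0, 0, -1, -1, -1, -1, -1, -1, -1, -2, -1, 0, -1, 5],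
  [0, 1, 0, 0, 0, 1, 1, 0, 0, 0, 1, 0, -1, -1, -2, -1, -1, 0, -1, -1, -1, -1, -1, 5],
  [0, 1, 0, 0, 0, 0, 0, 1, 1, 1, 1, 0, -1, -1, -2, -2, -2, -1, -1, -2, -2, -1, -1, 8],
  [0, 0, 0, 0, 0, 0, 1, 1, 0, 1, 0, 0, 0, 0, -1, -1, 0, -1, -1, -1, -1, -1, -1, 4],
  [0, 0, 0, 0, 0, 0, 1, 1, 0, 1, 1, 0, -1, 0, -2, -1, -1, -1, -1, -1, -1, -1, -1, 5],
  [0, 1, 0, 0, 0, 0, 1, 1, 0, 0, 1, 0, -1, 0, -2, -2, -1, 0, -1, -1, -1, -1, -1, 5],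
  [0, 0, 0, 0, 0, 0, 1, 0, 0, 1, 1, 0, 0, 0, -1, -1, -1, 0, 0, -1, -1, -1, -1, 3],
  [0, 0, 0, 0, 0, 0, 0, 0, 0, 1, 1, 0, 0, 0, -1, 0, -1, 0, 0, 0, -1, -1, 0, 2],
  [0, 0, 0, 0, 0, 0, 0, 0, 0, 0, 0, 1, 0, 0, 0, 0, 0, 0, 0, 0, 0, 0, 0, 0],
  [0, 0, 0, 0, 0, 0, 0, 0, 0, 0, 0, 0, 0, 0, 0, 1, 0, 0, 0, 0, 0, 0, 0, 0],
  [0, 2, 0, 0, 0, 0, 0, 0, 0, 0, 0, 0, -1, -1, -1, -1, -1, 0, 0, -1, 0, 0, -1, 4],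
  [0, 0, 0, 0, 0, 0, 0, 0, 0, 2, 0, 0, 0, 0, -1, 0, -1, -1, 0, -1, -1, -1, -1, 4],
  [0, 0, 0, 0, 0, 0, 0, 0, 0, 0, 0, 0, 0, 0, 0, 0, 0, 0, 0, 1, 0, 0, 0, 0],
  [0, 0, 0, 0, 0, 0, 0, 0, 0, 0, 0, 0, 0, 0, 0, 0, 0, 1, 0, 0, 0, 0, 0, 0],
  [0, 0, 0, 0, 0, 0, 0, 0, 0, 0, 0, 0, 0, 0, 0, 0, 0, 0, 0, 0, 0, 1, 0, 0],
  [0, 0, 0, 0, 0, 0, 0, 2, 0, 0, 0, 0, -1, 0, -1, -1, 0, -1, -1, -1, -1, 0, 0, 4],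
  [0, 0, 0, 0, 0, 0, 2, 0, 0, 0, 0, 0, 0, 0, -1, -1, 0, 0, -1, -1, 0, -1, -1, 3],
  [0, 0, 0, 0, 0, 0, 0, 0, 0, 0, 2, 0, -1, 0, -1, -1, -1, 0, 0, 0, -1, -1, 0, 3],
  [0, 0, 0, 0, 0, 0, 0, 0, 0, 0, 0, 0, 1, 0, 0, 0, 0, 0, 0, 0, 0, 0, 0, 0],
  [0, 0, 0, 0, 0, 0, 0, 0, 0, 0, 0, 0, 0, 0, 1, 0, 0, 0, 0, 0, 0, 0, 0, 0],
  [0, 0, 0, 0, 0, 0, 0, 0, 0, 0, 0, 0, 0, 0, 0, 0, 0, 0, 0, 0, 0, 0, 0, 1]]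

noncomputable def X' : List (List ℤ) :=
  [[2, 1, 1, 1, 1, 2, 2, 2, 1, 2, 2, 1, 1, 1, 2, 2, 1, 2, 1, 1, 1, 2, 1, 2],
  [1, 2, 1, 1, 1, 1, 2, 2, 1, 2, 1, 2, 0, 0, 1, 1, 0, 1, 0, 1, 0, 0, 0, 0],
  [1, 2, 1, 1, 1, 1, 2, 2, 1, 1, 2, 1, 1, 1, 2, 2, 1, 1, 1, 2, 1, 1, 1, 2],
  [1, 2, 1, 1, 1, 1, 2, 2, 1, 1, 2, 2, 1, 0, 1, 1, 0, 0, 0, 0, 0, 1, 0, 0],
  [1, 1, 1, 1, 1, 2, 2, 1, 1, 1, 2, 1, 1, 1, 1, 2, 1, 2, 1, 1, 1, 2, 1, 2],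
  [1, 1, 1, 1, 1, 1, 1, 1, 1, 1, 2, 1, 2, 1, 1, 1, 1, 1, 1, 1, 1, 2, 1, 2],
  [2, 2, 1, 1, 2, 1, 2, 2, 1, 2, 2, 1, 2, 1, 2, 1, 2, 1, 1, 2, 1, 1, 1, 2],
  [0, 1, 1, 1, 1, 1, 2, 2, 2, 2, 2, 2, 0, 0, 0, 1, 0, 0, 0, 1, 1, 1, 0, 0],
  [1, 2, 1, 2, 2, 1, 1, 2, 1, 1, 1, 2, 1, 1, 0, 0, 0, 1, 0, 1, 0, 0, 0, 0],
  [2, 1, 1, 2, 1, 2, 2, 2, 1, 2, 2, 2, 1, 0, 1, 0, 0, 1, 1, 0, 0, 1, 0, 0],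
  [2, 2, 2, 2, 2, 1, 2, 2, 1, 2, 2, 1, 2, 1, 1, 2, 1, 2, 1, 2, 1, 1, 2, 2],
  [1, 2, 1, 2, 1, 1, 1, 2, 2, 2, 1, 4, -1, -1, -1, -1, -1, -1, -1, -1, -1, -1, -1, -3],
  [1, 1, 2, 0, 1, 1, 2, 1, 1, 0, 2, -1, 2, 2, 2, 4, 2, 2, 2, 2, 2, 2, 2, 4],
  [1, 1, 1, 0, 1, 1, 1, 0, 0, 0, 1, -1, 2, 2, 2, 2, 2, 2, 2, 2, 2, 2, 2, 4],
  [1, 0, 1, 0, 1, 1, 1, 0, 0, 1, 1, -1, 2, 2, 2, 2, 2, 2, 2, 2, 2, 2, 2, 4],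
  [1, 1, 1, 1, 2, 1, 2, 1, 1, 1, 1, -1, 2, 2, 2, 2, 2, 2, 2, 4, 2, 2, 2, 4],
  [2, 0, 1, 1, 2, 2, 1, 1, 0, 1, 1, -1, 2, 2, 2, 2, 2, 4, 2, 2, 2, 2, 2, 4],
  [1, 0, 1, 1, 1, 2, 2, 0, 1, 1, 2, -1, 2, 2, 2, 2, 2, 2, 2, 2, 2, 4, 2, 4],
  [1, 0, 1, 0, 1, 1, 1, 1, 0, 0, 1, -1, 2, 2, 2, 2, 2, 2, 2, 2, 2, 2, 2, 4],
  [1, 0, 1, 0, 1, 1, 2, 0, 0, 0, 1, -1, 2, 2, 2, 2, 2, 2, 2, 2, 2, 2, 2, 4],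
  [1, 0, 1, 0, 1, 1, 1, 0, 0, 0, 2, -1, 2, 2, 2, 2, 2, 2, 2, 2, 2, 2, 2, 4],
  [2, 1, 2, 1, 2, 1, 1, 1, 0, 0, 2, -1, 4, 2, 2, 2, 2, 2, 2, 2, 2, 2, 2, 4],
  [2, 1, 1, 0, 1, 2, 2, 1, 0, 1, 2, -1, 2, 2, 4, 2, 2, 2, 2, 2, 2, 2, 2, 4],
  [2, 0, 2, 0, 2, 2, 2, 0, 0, 0, 2, -3, 4, 4, 4, 4, 4, 4, 4, 4, 4, 4, 4, 8]]

theorem isoX : chkIso X X' = true :=
  by decide +kernel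

theorem x_eq : permHom (mc y7) = elt X X' isoX :=
  permHom_eq_elt ok_y7 isoX (by decide +kernel)

noncomputable def C0 : List (List ℤ) :=
  [[-1, 0, 0, 0, 0, 0, 0, 0, 0, 0, 0, 0, 0, 0, 1, 0, 0, 0, 1, 0, 0, 0, 1, -1],
  [0, 1, 0, 0, 0, 0, 0, 1, 0, 0, 0, 0, -1, 0, -1, -1, -1, -1, 0, -1, 0, 0, 0, 3],
  [-1, 0, 1, 0, 0, 0, 0, 1, 0, 0, 0, 0, -1, 0, 0, -1, 0, 0, 0, -1, -1, 0, 0, 2],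
  [0, 0, 0, 1, 0, 0, 0, 0, 0, 1, 0, 0, -1, 0, 0, 0, -1, -1, 0, -1, 0, -1, -1, 3],
  [-1, 0, 0, 0, 1, 0, 0, 0, 0, 0, 0, 0, 0, 0, 1, 0, 0, 0, 1, -1, 0, 0, 1, -1],
  [-1, 0, 0, 0, 0, 1, 0, 0, 0, 1, 0, 0, 0, 0, 0, 0, 0, -1, 0, -1, -1, -1, 0, 2],
  [-1, 0, 0, 0, 0, 0, 0, 1, 0, 1, 1, 0, -1, 0, -1, -1, -1, -1, 0, -1, -1, -1, 0, 4],
  [0, 0, 0, 0, 0, 0, 0, 1, 0, 0, 0, 0, -1, 0, 0, -1, 0, -1, 0, -1, 0, 0, 0, 2],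
  [0, 0, 0, 0, 0, 0, 0, 1, 1, 1, 0, 0, -1, 0, -1, -1, -1, -1, -1, -2, -1, -1, 0, 5],
  [0, 0, 0, 0, 0, 0, 0, 0, 0, 1, 0, 0, 0, 0, 0, 0, -1, -1, 0, -1, 0, -1, 0, 2],
  [-1, 0, 0, 0, 0, 0, -1, 1, 0, 1, 0, 0, 0, 0, 0, 0, 0, -1, 1, -1, -1, 0, 1, 1],
  [1, 0, 0, 0, 0, 0, -1, 0, 0, 0, 0, 1, -1, 0, 0, 0, -1, -1, 0, 0, 0, 0, 0, 2],
  [-2, 0, 0, 0, 0, 0, 0, 0, 0, 0, 0, 0, 1, 0, 1, 0, 1, 1, 2, 0, 0, 0, 1, -3],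
  [-2, 0, 0, 0, 0, 0, 0, 0, 0, 0, 0, 0, 1, 1, 1, 0, 1, 1, 1, 0, 0, 0, 1, -3],
  [-2, 0, 0, 0, 0, 0, 0, 0, 0, 0, 0, 0, 1, 0, 1, 0, 1, 0, 1, 0, 0, 0, 1, -2],
  [-2, 0, 0, 0, 0, 0, 0, 2, 0, 0, 0, 0, 0, 0, 0, -1, 1, 0, 0, -1, -1, 0, 1, 1],
  [-2, 0, 0, 0, 0, 0, 0, 0, 0, 0, 0, 0, 1, 0, 1, 0, 1, 1, 1, 0, 0, 0, 2, -3],
  [-2, 0, 0, 0, 0, 0, 0, 0, 0, 0, 0, 0, 1, 0, 2, 0, 1, 1, 1, 0, 0, 0, 1, -3],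
  [-2, 0, 0, 0, 0, 0, 0, 0, 0, 0, 0, 0, 0, 0, 1, 0, 1, 1, 1, 0, 0, 0, 1, -2],
  [-2, 0, 0, 0, 0, 0, 0, 0, 0, 0, 0, 0, 1, 0, 1, 0, 1, 1, 1, 0, 1, 0, 1, -3],
  [-2, 0, 0, 0, 0, 0, 0, 0, 0, 0, 0, 0, 1, 0, 1, 0, 1, 1, 1, -1, 0, 0, 1, -2],
  [-2, 0, 0, 0, 0, 0, 0, 0, 0, 2, 0, 0, 1, 0, 0, 0, 0, 0, 1, -1, -1, -1, 0, 1],
  [-2, 0, 0, 0, 0, 0, 0, 0, 0, 0, 0, 0, 1, 0, 1, 0, 0, 1, 1, 0, 0, 0, 1, -2],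
  [-4, 0, 0, 0, 0, 0, 0, 0, 0, 0, 0, 0, 2, 0, 2, 0, 2, 2, 2, 0, 0, 0, 2, -5]]

noncomputable def W0 : List (List ℤ) :=
  [[0, 0, 1, 0, -1, 1, 2, 0, 0, 0, 0, -1, 0, 1, 2, 1, 0, 0, 2, 1, 1, 1, 2, 2],
  [0, 1, 2, 1, 0, 1, 1, 1, 1, 0, 0, 1, 0, 1, 0, 0, -1, -1, 1, 0, 1, 0, 1, 0],
  [-1, -1, 1, 0, -1, 1, 0, 0, 0, -1, -1, 0, -1, 1, 0, 0, -1, 0, 1, -1, 0, 0, 0, 0],
  [0, 0, 1, 1, 0, 2, 1, 1, 1, 1, 0, 1, -1, 1, 1, 0, -1, 0, 1, 0, 1, 0, 0, 0],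
  [1, 1, 2, 1, 1, 2, 1, 1, 1, 1, 1, 1, 0, 1, 1, 0, 0, 0, 1, -1, 1, 0, 1, 0],
  [-1, 0, 0, -1, -1, 1, 0, -1, 0, 0, 0, 0, -1, 1, 1, 0, 0, -1, 0, -1, 0, 0, 0, 0],
  [-2, -1, 0, -1, -1, 0, 0, 0, 0, 0, 0, 0, -1, 0, 0, 0, -1, -1, 0, 0, 1, 0, 0, 0],
  [0, -1, 0, -1, -1, 1, 0, 0, 0, 0, 0, 0, -1, 0, 1, -1, 0, -1, 1, -1, 1, 0, 0, 0],
  [0, 0, 1, 0, 0, 1, 0, 0, 1, 1, 0, 1, -1, 1, 0, 0, 0, 0, 0, -1, 1, 0, 1, 0],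
  [0, 0, 1, -1, -1, 0, 0, 0, -1, 0, 0, 0, 0, 0, 1, 0, -1, -1, 0, -1, 1, -1, 1, 0],
  [0, 0, 1, 0, -1, 0, 0, 0, 0, 0, 0, 0, 0, 0, 0, 0, 0, -1, 1, -1, 0, 0, 1, 0],
  [1, 0, 1, 0, 0, 1, 0, 0, 0, 0, 0, 1, 0, 1, 1, 0, 0, 0, 1, 0, 1, 0, 1, 1],
  [0, 0, 1, 1, 0, 1, 1, 1, 1, 0, 0, 0, 0, 0, 0, 0, 0, 0, 2, 0, 0, 0, 0, 0],
  [-1, 1, 1, 1, 1, 1, 0, 0, 1, 0, 0, 0, 0, 2, 0, 0, 0, 0, 0, 0, 0, 0, 0, 0],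
  [-2, 0, 0, -1, -1, -1, 0, -1, 0, -1, 0, -1, 0, 0, 0, 0, 0, -2, 0, 0, 0, 0, 0, 0],
  [-1, 0, 0, 0, 0, 0, 0, 1, 0, 0, 0, 0, 0, 0, 0, 0, 0, 0, 0, 0, 0, 0, 0, 0],
  [0, 1, 1, 1, 0, 0, 1, 0, 0, 1, 0, 0, 0, 0, 0, 0, 0, 0, 0, 0, 0, 0, 2, 0],
  [0, 1, 0, 0, 0, 1, 1, 1, 0, 1, 1, 0, 0, 0, 2, 0, 0, 0, 0, 0, 0, 0, 0, 0],
  [-2, -1, -1, -1, -1, 0, 0, -1, 0, 0, -1, -1, -2, 0, 0, 0, 0, 0, 0, 0, 0, 0, 0, 0],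
  [-1, 0, 1, 0, 1, 1, 0, 1, 1, 1, 1, 0, 0, 0, 0, 0, 0, 0, 0, 0, 2, 0, 0, 0],
  [-1, -1, 0, -1, -1, 0, -1, -1, -1, -1, 0, -1, 0, 0, 0, 0, 0, 0, 0, -2, 0, 0, 0, 0],
  [-1, 0, 0, 0, 0, 0, 0, 0, 0, 1, 0, 0, 0, 0, 0, 0, 0, 0, 0, 0, 0, 0, 0, 0],
  [-2, -1, 0, 0, -1, 0, 0, 0, -1, -1, -1, -1, 0, 0, 0, 0, -2, 0, 0, 0, 0, 0, 0, 0],
  [-2, 0, 0, 0, 0, 0, 0, 0, 0, 0, 0, -1, 0, 0, 0, 0, 0, 0, 0, 0, 0, 0, 0, 0]]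

theorem iso0 : chkIso C0 W0 = true :=
  by decide +kernel

theorem rep0 : ∃ g ∈ centralizer ({permHom (mc y7)} : Set Co0), RepBy 64 (lpt 64 P []) g (wp ns [0]) :=
  rep_cent ctx x_eq iso0 (by decide +kernel)

noncomputable def C1 : List (List ℤ) :=
  [[0, 0, 1, 1, 1, 1, 1, 0, 1, 1, 0, -1, -1, -2, -1, -1, -1, -2, -2, -2, -2, -2, -2, 8],
  [1, 1, 2, 2, 1, 0, 1, 1, 1, 2, 1, -2, -4, -3, -3, -3, -3, -3, -3, -4, -3, -3, -4, 16],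
  [0, 0, 1, 0, 0, 0, 0, 1, 0, 1, 0, 0, -1, 0, -1, -1, 0, -1, -1, -1, -1, 0, -1, 4],
  [1, 1, 2, 0, 1, 2, 1, 1, 1, 2, 1, -2, -3, -3, -4, -3, -3, -3, -3, -3, -4, -3, -3, 15],
  [1, 0, 1, 0, 1, 0, 0, 0, 1, 1, 1, -1, -2, -1, -1, -1, -2, -1, -1, -1, -2, -1, -1, 6],
  [0, 0, 0, 0, 0, 1, 0, 0, 0, 1, 0, 0, 0, 0, -1, 0, 0, -1, 0, 0, -1, -1, 0, 2],
  [0, 1, 1, 1, 0, 1, 1, 1, 0, 1, 1, -1, -2, -2, -3, -2, -1, -2, -2, -2, -2, -2, -2, 10],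
  [0, 1, 1, 1, 1, 1, 1, 1, 1, 1, 2, -2, -3, -2, -3, -3, -2, -2, -2, -3, -3, -3, -2, 12],
  [1, 2, 1, 1, 1, 1, 1, 1, 1, 2, 1, -2, -4, -3, -4, -3, -3, -3, -3, -4, -3, -3, -3, 16],
  [0, 1, 1, 1, 2, 1, 1, 1, 1, 2, 1, -2, -3, -3, -3, -2, -3, -3, -2, -4, -4, -3, -2, 14],
  [0, 1, 0, 1, 0, 0, 0, 1, 1, 1, 0, -1, -1, -1, -1, -1, -1, -1, -1, -2, -1, -1, -1, 6],
  [1, 2, 2, 2, 2, 2, 1, 2, 2, 2, 2, -3, -6, -5, -5, -5, -5, -5, -5, -6, -6, -5, -4, 25],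
  [0, -1, 0, -1, -1, -1, 0, 0, 0, -1, -1, 1, 2, 2, 2, 1, 2, 2, 1, 2, 2, 2, 1, -8],
  [0, -1, 0, -1, -1, -1, -1, -1, -1, 0, -1, 2, 2, 2, 2, 2, 2, 2, 2, 3, 2, 2, 1, -9],
  [-1, -1, -1, 0, -1, -1, -1, -1, -1, -1, -1, 2, 3, 2, 3, 3, 3, 2, 3, 3, 3, 2, 2, -12],
  [0, 0, -1, 0, -1, -1, 0, 0, -1, 0, 0, 1, 1, 2, 0, 1, 1, 1, 1, 1, 2, 1, 0, -4],
  [0, -1, -1, 0, 0, -1, 0, -1, 0, 0, -1, 1, 2, 1, 2, 2, 1, 1, 1, 1, 2, 1, 1, -6],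
  [0, -1, -1, -1, 0, 0, 0, -1, -1, 0, 0, 1, 2, 2, 1, 2, 1, 1, 2, 2, 1, 1, 1, -7],
  [-1, -1, -1, -1, -1, 0, 0, -1, -1, -1, -1, 2, 3, 2, 2, 2, 3, 2, 2, 3, 3, 2, 2, -11],
  [0, 0, 0, -1, 0, -1, 0, -1, -1, -1, 0, 1, 1, 1, 1, 1, 1, 2, 2, 2, 2, 2, 1, -7],
  [-1, -1, -1, -1, -1, -1, -1, -1, -1, -1, -1, 2, 3, 3, 3, 3, 3, 3, 3, 3, 3, 3, 3, -14],
  [0, 0, -1, -1, -1, 0, 0, 0, 0, 0, -1, 1, 2, 1, 0, 1, 1, 1, 1, 1, 1, 1, 1, -4],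
  [-1, -1, 0, -1, -1, -1, 0, -1, -1, 0, -1, 2, 3, 2, 2, 2, 2, 2, 2, 2, 2, 2, 1, -9],
  [-1, -2, -2, -2, -2, -2, -1, -2, -2, -2, -2, 4, 6, 5, 5, 5, 5, 5, 5, 6, 6, 5, 4, -24]]

noncomputable def W1 : List (List ℤ) :=
  [[1, 1, 2, 1, 2, 2, 2, 1, 2, 1, 2, 0, 2, 2, 2, 2, 2, 1, 2, 2, 2, 2, 1, 3],
  [1, 0, 2, 1, 1, 1, 1, 1, 1, 1, 1, 0, 1, 1, 1, 1, 1, 1, 2, 1, 2, 1, 1, 2],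
  [1, 1, 2, 1, 2, 2, 1, 1, 2, 2, 2, 1, 1, 2, 1, 1, 2, 1, 1, 1, 2, 2, 1, 2],
  [1, 0, 2, 0, 1, 2, 1, 1, 1, 1, 1, 0, 1, 1, 1, 1, 1, 1, 2, 1, 2, 1, 1, 2],
  [2, 1, 2, 1, 2, 2, 2, 1, 2, 2, 2, 0, 1, 2, 2, 2, 2, 2, 2, 2, 2, 2, 2, 3],
  [2, 2, 2, 2, 2, 2, 2, 1, 2, 2, 1, 1, 1, 2, 1, 1, 2, 1, 2, 2, 1, 1, 2, 2],
  [1, 1, 2, 1, 1, 1, 2, 1, 1, 1, 2, 0, 2, 1, 1, 2, 2, 1, 2, 2, 2, 2, 2, 3],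
  [1, 1, 2, 1, 2, 2, 1, 1, 2, 1, 2, 0, 1, 2, 1, 1, 2, 1, 2, 1, 2, 1, 1, 2],
  [1, 1, 1, 0, 1, 1, 1, 0, 1, 2, 1, 0, 0, 1, 1, 1, 2, 1, 1, 1, 2, 1, 2, 2],
  [1, 1, 2, 1, 1, 1, 2, 1, 1, 1, 1, 0, 1, 1, 1, 2, 1, 1, 2, 1, 1, 1, 2, 2],
  [2, 2, 2, 2, 2, 2, 2, 2, 2, 2, 2, 0, 2, 2, 2, 2, 2, 2, 2, 2, 2, 2, 2, 3],
  [0, 0, 1, 0, 0, 1, 0, 0, 0, 0, 0, 0, 0, 1, 1, 0, 0, 0, 1, 0, 1, 0, 1, 1],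
  [2, 1, 2, 1, 2, 2, 2, 2, 2, 1, 2, 0, 2, 2, 2, 2, 2, 2, 2, 2, 2, 2, 1, 3],
  [2, 1, 1, 1, 2, 1, 1, 1, 1, 2, 1, 1, 1, 1, 1, 1, 2, 2, 1, 2, 1, 1, 1, 2],
  [2, 2, 2, 2, 2, 1, 2, 2, 2, 1, 2, 1, 2, 1, 1, 2, 2, 1, 2, 2, 1, 1, 1, 2],
  [1, 1, 1, 1, 2, 1, 1, 1, 1, 1, 2, 0, 2, 2, 1, 2, 2, 2, 1, 2, 2, 2, 1, 3],
  [2, 1, 1, 1, 2, 1, 2, 1, 1, 2, 2, 0, 2, 1, 2, 2, 2, 2, 1, 2, 2, 2, 2, 3],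
  [2, 1, 1, 1, 2, 2, 2, 1, 1, 1, 2, 0, 2, 2, 2, 2, 2, 2, 2, 2, 1, 2, 1, 3],
  [1, 1, 1, 1, 2, 2, 2, 1, 2, 2, 2, 1, 1, 1, 1, 1, 2, 1, 1, 2, 2, 2, 1, 2],
  [2, 1, 2, 1, 2, 1, 2, 1, 1, 1, 2, 0, 2, 1, 1, 2, 2, 2, 2, 2, 2, 2, 2, 3],
  [2, 2, 2, 2, 2, 2, 2, 1, 2, 2, 2, 1, 1, 2, 1, 2, 2, 2, 1, 1, 1, 2, 2, 2],
  [2, 1, 1, 1, 1, 1, 2, 1, 1, 1, 1, 0, 2, 1, 1, 2, 2, 2, 2, 2, 1, 2, 2, 3],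
  [1, 1, 2, 1, 1, 1, 2, 1, 1, 1, 2, 1, 2, 1, 1, 2, 1, 1, 1, 1, 1, 2, 1, 2],
  [3, 2, 2, 2, 3, 2, 3, 2, 2, 2, 3, 1, 3, 2, 2, 3, 3, 3, 2, 3, 2, 3, 2, 4]]

theorem iso1 : chkIso C1 W1 = true :=
  by decide +kernel

theorem rep1 : ∃ g ∈ centralizer ({permHom (mc y7)} : Set Co0), RepBy 64 (lpt 64 P []) g (wp ns [2]) :=
  rep_cent ctx x_eq iso1 (by decide +kernel)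

theorem reps : Reps 64 (lpt 64 P []) (centralizer {permHom (mc y7)}) ns G_ss0 :=
  Reps.cons rep0 (Reps.cons rep1 (Reps.nil))

theorem inj : ∀ i < 64, ∀ j < 64, lpt 64 P [] i = lpt 64 P [] j → i = j :=
  inj_of_reps ctx reps [0, 1, 2, 6, 9] 7 (by decide +kernel)

noncomputable def FA : List (List ℤ) :=
  [[1, 0, 0, 0, 0, 0, 0, 0, 0, 1, 0, 0, 1, 0, 0, 0, 1, 0, 1, 0, 0, 0, 1, 0],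
  [0, 1, 1, 1, 1, 1, 0, 1, 1, 1, 1, 0, 0, 1, 1, 1, 0, 1, 1, 1, 1, 1, 1, 1],
  [0, 1, 0, 0, 0, 0, 1, 1, 0, 0, 0, 0, 1, 0, 0, 0, 1, 0, 0, 0, 0, 1, 0, 1],
  [0, 0, 0, 1, 1, 1, 1, 1, 1, 0, 1, 0, 0, 1, 1, 1, 0, 1, 1, 0, 0, 1, 1, 1],
  [0, 1, 1, 1, 0, 0, 1, 0, 0, 0, 1, 0, 1, 0, 1, 0, 1, 0, 1, 0, 0, 1, 1, 0],
  [0, 0, 0, 0, 0, 1, 1, 0, 1, 1, 1, 0, 0, 1, 0, 0, 1, 1, 1, 0, 0, 0, 1, 1],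
  [0, 0, 0, 0, 0, 0, 1, 0, 0, 1, 0, 0, 1, 0, 0, 0, 0, 1, 1, 1, 0, 1, 1, 0],
  [0, 0, 0, 0, 0, 0, 1, 0, 0, 0, 1, 0, 0, 0, 0, 1, 0, 1, 0, 1, 1, 1, 0, 1],
  [0, 1, 1, 1, 1, 1, 1, 1, 0, 0, 0, 0, 0, 0, 0, 1, 1, 1, 0, 1, 1, 0, 0, 1],
  [0, 0, 0, 0, 0, 0, 0, 1, 0, 1, 0, 0, 0, 0, 0, 0, 1, 0, 0, 1, 1, 0, 1, 0],
  [0, 0, 0, 0, 0, 0, 1, 0, 0, 0, 0, 0, 1, 0, 1, 0, 1, 1, 1, 1, 1, 0, 1, 0],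
  [0, 0, 0, 0, 0, 0, 0, 0, 0, 0, 0, 1, 0, 0, 0, 0, 0, 0, 0, 0, 0, 0, 0, 0],
  [0, 0, 0, 0, 0, 0, 0, 0, 0, 0, 0, 0, 0, 0, 1, 0, 0, 1, 1, 1, 0, 1, 1, 1],
  [0, 0, 0, 0, 0, 0, 0, 0, 0, 0, 0, 0, 0, 1, 0, 1, 1, 0, 0, 0, 1, 0, 0, 1],
  [0, 0, 0, 0, 0, 0, 0, 0, 0, 0, 0, 0, 0, 0, 1, 0, 0, 0, 1, 0, 1, 0, 1, 1],
  [0, 0, 0, 0, 0, 0, 0, 0, 0, 0, 0, 0, 0, 0, 0, 0, 1, 0, 0, 1, 0, 1, 0, 0],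
  [0, 0, 0, 0, 0, 0, 0, 0, 0, 0, 0, 0, 1, 0, 0, 0, 0, 1, 0, 1, 0, 0, 0, 0],
  [0, 0, 0, 0, 0, 0, 0, 0, 0, 0, 0, 0, 0, 0, 1, 0, 0, 0, 1, 1, 0, 0, 1, 1],
  [0, 0, 0, 0, 0, 0, 0, 0, 0, 0, 0, 0, 0, 0, 1, 0, 1, 1, 1, 1, 0, 1, 0, 1],
  [0, 0, 0, 0, 0, 0, 0, 0, 0, 0, 0, 0, 1, 0, 1, 1, 0, 1, 1, 1, 0, 1, 1, 1],
  [0, 0, 0, 0, 0, 0, 0, 0, 0, 0, 0, 0, 1, 0, 0, 1, 1, 0, 1, 0, 1, 1, 0, 1],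
  [0, 0, 0, 0, 0, 0, 0, 0, 0, 0, 0, 0, 1, 0, 0, 0, 1, 0, 0, 1, 0, 0, 0, 0],
  [0, 0, 0, 0, 0, 0, 0, 0, 0, 0, 0, 0, 0, 0, 1, 0, 0, 0, 1, 0, 1, 0, 0, 0],
  [0, 0, 0, 0, 0, 0, 0, 0, 0, 0, 0, 0, 0, 0, 0, 0, 0, 0, 0, 0, 0, 0, 0, 1]]

noncomputable def FB : List (List ℤ) :=
  [[0, 1, 1, 1, 1, 1],
  [0, 1, 0, 1, 1, 0],
  [0, 1, 1, 0, 0, 0],
  [0, 1, 0, 1, 1, 0],
  [0, 0, 1, 0, 1, 0],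
  [0, 1, 1, 0, 0, 0],
  [0, 1, 1, 1, 0, 0],
  [0, 0, 0, 0, 0, 0],
  [0, 1, 0, 1, 1, 0],
  [0, 0, 0, 0, 0, 0],
  [0, 1, 1, 1, 0, 0],
  [1, 0, 0, 0, 0, 0],
  [0, 1, 0, 0, 1, 1],
  [0, 1, 0, 1, 1, 1],
  [0, 0, 0, 0, 0, 1],
  [0, 1, 0, 0, 1, 1],
  [0, 1, 0, 0, 1, 1],
  [0, 1, 0, 0, 1, 1],
  [0, 0, 0, 0, 0, 1],
  [0, 1, 0, 0, 1, 1],
  [0, 0, 0, 0, 0, 1],
  [0, 1, 0, 0, 1, 1],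
  [0, 0, 0, 0, 0, 1],
  [0, 0, 0, 0, 0, 1]]

noncomputable def FF : List (List ℤ) :=
  [[0, 0, 0, 0, 0, 0, 0, 0, 0, 0, 0, 1, 0, 0, 0, 0, 0, 0, 0, 0, 0, 0, 0, 0],
  [1, 0, 0, 0, 0, 0, 1, 0, 0, 0, 0, 0, 1, 0, 0, 0, 1, 1, 0, 0, 0, 0, 0, 0],
  [1, 0, 0, 0, 0, 0, 1, 1, 0, 1, 1, 0, 1, 1, 0, 0, 0, 0, 1, 1, 1, 0, 0, 0],
  [0, 0, 0, 0, 0, 0, 0, 0, 0, 0, 0, 0, 1, 1, 1, 1, 0, 0, 1, 0, 0, 1, 0, 0],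
  [1, 0, 0, 0, 0, 0, 1, 0, 0, 0, 0, 0, 0, 0, 1, 0, 0, 0, 1, 0, 0, 0, 1, 0],
  [0, 0, 0, 0, 0, 0, 0, 0, 0, 0, 0, 0, 0, 0, 0, 0, 0, 0, 0, 0, 0, 0, 0, 1]]

theorem hF0 : (Fx (permHom (mc y7))).Finite ∧ (Fx (permHom (mc y7))).ncard ≤ 64 :=
  x_eq ▸ Fx_le (n := 6) (A := FA) (B := FB) (F := FF) isoX (by decide +kernel)

theorem hx : RepBy 64 (lpt 64 P []) (permHom (mc y7)) 1 :=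
  rep_self ctx x_eq (by decide +kernel)

theorem hF : Fx (permHom (mc y7)) = lpt 64 P [] '' Set.Iio 64 ∧ (Fx (permHom (mc y7))).ncard = 64 :=
  Fx_eq inj hx hF0

noncomputable def D4 : ℕ :=
  nat_lit 0x408054c102011640

theorem hT : ∀ i < 64, (lpt 64 P [] i ∈ T4 ↔ D4.testBit i = true) :=
  fun _ => T4_iff ctx reps (a := [(6, [4, 2, 2, 2, 2, 2, 2, 3, 2, 3, 3, -4, -8, -5, -8, -6, -7, -7, -7, -7, -7, -6, -6, 32]), (9, [4, 2, 2, 2, 2, 2, 2, 2, 2, 2, 2, -3, -7, -5, -7, -5, -6, -6, -7, -6, -6, -5, -6, 28])])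
    (b := [(0, [0, 0, 0, 0, 0, 0, 0, 0, 0, 0, 0, 0, 0, 0, 0, 0, 0, 0, 0, 0, 0, 0, 0, 0]), (1, [0, 0, 0, 0, 0, 0, 0, 0, 0, 0, 0, 1, 0, 0, 0, 0, 0, 0, 0, 0, 0, 0, 0, 0]), (2, [1, 0, 0, 0, 0, 0, -1, 0, 0, 0, 0, 0, -1, 0, 0, 0, -1, -1, 0, 0, 0, 0, 0, 2])]) (r := 7) (by decide +kernel)

theorem nT : (Fx (permHom (mc y7)) ∩ T4).ncard = 14 :=
  ncard_Fx_T4 ctx inj hF.1 hT (by decide +kernel)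

theorem nI : {o : Finset GolayPt | o ∈ GC ∧ mc y7 • o = o}.ncard = 8 :=
  ncard_inv_code ok_y7 (by decide +kernel)

theorem ho : orderOf (permHom (mc y7)) = 7 :=
  (orderOf_permHom _).trans ord_y7

noncomputable def J : List (List ℤ) :=
  [[0, 0, 0, 0, 0, 0, 0, 0, 0, 0, 0, 0, 0, 0, 0, 0, 0, 0, 0, 0, 0, 0, 1, 0],
  [0, 0, 0, 0, 0, 1, 1, 0, 1, 0, 0, -1, 0, -1, -1, -1, 0, 0, -1, -1, -1, -1, 0, 3],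
  [1, 0, 0, 0, 1, 0, 0, 1, 1, 0, 0, -1, -1, -1, -1, -1, -1, -1, -1, -1, -1, 0, 0, 4],
  [0, 0, 0, 1, 0, 0, 0, 0, 1, 0, 0, -1, 0, -1, 0, 0, 0, 0, -1, -1, 0, -1, 0, 2],
  [0, 0, 1, 0, 0, 0, 1, 0, 1, 1, 0, -1, 0, -1, -1, -1, -1, 0, -1, -1, -1, -1, -1, 4],
  [1, 1, 0, 0, 0, 0, 0, 0, 1, 1, 1, -1, -1, -1, -2, -1, -2, -1, -1, -1, -1, -1, -1, 6],
  [0, 0, 0, 0, 0, 0, 0, 0, 0, 0, 0, 0, 0, 0, 0, 0, 1, 0, 0, 0, 0, 0, 0, 0],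
  [0, 0, 0, 0, 0, 0, 0, 0, 0, 0, 0, 0, 0, 0, -1, 0, 0, 0, 0, 0, 0, 0, 0, 1],
  [0, 0, 0, 0, 0, 0, 0, 0, 1, 0, 0, -1, 0, 0, 0, 0, 0, 0, 0, 0, 0, 0, 0, 0],
  [0, 0, 0, 0, 0, 0, 0, -2, 0, 0, 0, 0, 1, 0, 1, 1, 0, 1, 1, 1, 1, 0, 0, -3],
  [0, 0, 0, 0, 0, 0, 0, 0, 0, 0, 0, 0, 0, 0, 0, 0, 0, 0, 0, 0, 0, 1, 0, 0],
  [0, 0, 0, 0, 0, 0, 0, 0, 0, 0, 0, -1, 0, 0, 0, 0, 0, 0, 0, 0, 0, 0, 0, 0],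
  [0, 0, 0, 0, 0, 0, 1, 1, 0, 0, 0, 0, 0, 0, -1, -1, 0, 0, -1, -1, 0, 0, 0, 2],
  [1, 0, 0, 0, 0, 0, 1, 1, 2, 1, 1, -1, -1, -1, -2, -2, -2, -1, -2, -2, -2, -2, -1, 8],
  [1, 0, 0, 0, 0, 0, 1, 0, 0, 1, 1, 0, -1, 0, -2, -1, -1, -1, -1, -1, -1, -1, -1, 5],
  [0, 0, 0, 0, 0, 0, 0, 1, 0, 0, 1, 0, -1, 0, -1, -1, 0, 0, 0, 0, -1, 0, 0, 2],
  [0, 0, 0, 0, 0, 0, 1, 0, 0, 0, 0, 0, 0, 0, 0, 0, 0, 0, 0, 0, 0, 0, 0, 0],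
  [0, 0, 0, 0, 0, 0, 0, 0, 0, 1, 1, 0, 0, 0, -1, 0, -1, 0, 0, 0, -1, -1, 0, 2],
  [1, 0, 0, 0, 0, 0, 0, 1, 0, 0, 0, 0, -1, 0, -1, 0, 0, -1, -1, 0, 0, 0, 0, 2],
  [0, 0, 0, 0, 0, 0, 1, 0, 0, 1, 0, 0, 0, 0, -1, 0, 0, 0, 0, -1, 0, -1, -1, 2],
  [1, 0, 0, 0, 0, 0, 0, 0, 0, 1, 0, 0, 0, 0, -1, 0, -1, -1, 0, 0, 0, 0, -1, 2],
  [0, 0, 0, 0, 0, 0, 0, 0, 0, 0, 1, 0, 0, 0, 0, 0, 0, 0, 0, 0, 0, 0, 0, 0],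
  [1, 0, 0, 0, 0, 0, 0, 0, 0, 0, 0, 0, 0, 0, 0, 0, 0, 0, 0, 0, 0, 0, 0, 0],
  [1, 0, 0, 0, 0, 0, 1, 1, 0, 1, 1, 0, -1, 0, -2, -1, -1, -1, -1, -1, -1, -1, -1, 5]]

noncomputable def J' : List (List ℤ) :=
  [[2, 1, 2, 1, 1, 1, 2, 0, 0, 1, 1, -1, 2, 2, 2, 2, 2, 2, 2, 2, 2, 2, 4, 4],
  [1, -1, 0, 0, 0, 1, 1, -1, 0, 0, 0, -2, 1, 1, 1, 1, 2, 2, 2, 1, 1, 2, 2, 3],
  [2, 0, 1, 1, 2, 1, 1, 1, 1, 1, 1, -1, 2, 1, 1, 1, 2, 2, 2, 2, 2, 2, 2, 3],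
  [1, 0, 1, 0, 1, 0, 0, 0, 0, 0, 1, -2, 2, 1, 1, 2, 2, 2, 1, 1, 2, 1, 2, 3],
  [1, 0, 2, 1, 1, 1, 2, 1, 1, 1, 1, -1, 2, 1, 1, 2, 1, 2, 2, 2, 2, 2, 2, 3],
  [1, 1, 1, 0, 1, 0, 1, 0, 1, 1, 2, -1, 2, 1, 1, 2, 2, 1, 1, 2, 2, 2, 2, 3],
  [2, 1, 1, 0, 2, 1, 1, 0, 1, 1, 2, -1, 2, 2, 2, 2, 4, 2, 2, 2, 2, 2, 2, 4],
  [0, -1, 1, 0, 1, 0, 0, -1, 0, -1, 0, -2, 2, 2, 0, 2, 2, 2, 2, 2, 2, 2, 2, 4],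
  [0, 0, 1, 0, 1, 1, 1, 0, 2, 0, 1, -2, 1, 2, 1, 2, 2, 1, 2, 2, 2, 2, 1, 3],
  [1, 0, 1, 0, 1, 1, 1, -1, 0, 0, 1, -2, 2, 2, 2, 2, 2, 2, 2, 2, 2, 2, 2, 4],
  [1, 0, 1, 1, 1, 2, 2, 0, 1, 1, 2, -1, 2, 2, 2, 2, 2, 2, 2, 2, 2, 4, 2, 4],
  [-1, -2, -1, -2, -1, -1, -1, -2, -2, -2, -1, -4, 1, 1, 1, 1, 1, 1, 1, 1, 1, 1, 1, 3],
  [2, 1, 2, 2, 2, 2, 2, 2, 1, 2, 2, 1, 2, 1, 1, 1, 1, 2, 1, 1, 2, 2, 2, 2],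
  [2, 1, 1, 1, 1, 1, 2, 2, 2, 2, 2, 1, 1, 0, 1, 1, 1, 1, 1, 1, 1, 1, 1, 1],
  [2, 1, 1, 1, 1, 1, 2, 0, 1, 2, 2, 1, 1, 1, 1, 1, 2, 1, 1, 1, 1, 2, 2, 2],
  [2, 1, 1, 2, 2, 2, 2, 2, 2, 2, 2, 1, 1, 1, 1, 1, 2, 2, 2, 2, 1, 2, 1, 2],
  [2, 2, 2, 2, 1, 2, 4, 2, 2, 2, 2, 1, 1, 1, 2, 2, 1, 1, 2, 2, 1, 2, 2, 2],
  [2, 2, 2, 2, 2, 1, 2, 2, 1, 2, 2, 1, 2, 1, 1, 2, 1, 2, 1, 2, 1, 1, 2, 2],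
  [2, 2, 2, 1, 2, 1, 2, 2, 2, 2, 2, 1, 1, 1, 1, 2, 2, 1, 1, 2, 2, 1, 2, 2],
  [2, 1, 2, 1, 2, 2, 2, 2, 2, 2, 2, 1, 1, 1, 1, 2, 2, 2, 2, 1, 2, 1, 1, 2],
  [2, 1, 2, 2, 2, 2, 2, 2, 2, 2, 2, 1, 2, 1, 1, 1, 1, 1, 2, 2, 2, 2, 1, 2],
  [2, 2, 2, 1, 2, 2, 2, 2, 2, 2, 4, 1, 2, 1, 2, 2, 2, 1, 1, 1, 2, 2, 1, 2],
  [4, 2, 2, 2, 2, 2, 2, 2, 1, 2, 2, 1, 2, 1, 2, 1, 2, 2, 2, 1, 1, 1, 2, 2],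
  [4, 3, 3, 3, 3, 3, 4, 4, 3, 4, 4, 3, 2, 1, 2, 2, 2, 2, 2, 2, 2, 2, 2, 2]]

theorem isoJ : chkIso J J' = true :=
  by decide +kernel

noncomputable def K : List (List ℤ) :=
  [[1, 2, 0, 0, 1, 0, 0, 0, 1, 1, 0, -1, -2, -2, -2, -1, -3, -1, -1, -2, -1, -1, -2, 8],
  [0, 0, 0, 0, 1, -1, -1, 0, 0, 1, -1, 0, 0, 0, 1, 1, -1, 0, 1, 0, 0, 1, 0, -1],
  [1, 1, 0, 0, 1, -1, 0, 0, 0, 0, -1, 0, -1, -1, 0, 0, -1, 0, 0, -1, 0, 1, -1, 2],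
  [1, 1, 1, 1, 2, 0, 0, 0, 1, 1, 0, -1, -3, -3, -1, -1, -3, -2, -2, -3, -2, -1, -2, 10],
  [0, 1, 1, 0, 1, -1, -1, -1, 0, 0, 0, 0, -1, -1, 1, 0, -1, 1, 1, 0, 0, 1, -1, 0],
  [2, 1, 1, 1, 1, 0, 0, 0, 0, 1, 0, -1, -3, -2, -2, -1, -2, -2, -2, -2, -1, -1, -3, 9],
  [2, 1, 0, 1, 1, 0, 0, 0, 1, 1, 0, -1, -2, -2, -2, -1, -3, -2, -2, -2, -1, -1, -2, 9],
  [1, 1, 1, 0, 1, 0, 0, 0, 1, 1, -1, -1, -1, -2, -1, -1, -2, -1, -1, -2, -1, 0, -2, 6],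
  [1, 0, 1, 1, 1, 0, 0, 0, 1, 1, 0, -1, -2, -2, -1, -1, -2, -1, -2, -2, -2, -1, -2, 8],
  [2, 1, 1, 1, 2, 1, 0, 1, 1, 1, 1, -2, -4, -3, -3, -2, -4, -3, -3, -3, -3, -2, -3, 14],
  [1, 1, 0, 0, 0, -1, 0, 0, 0, 1, 0, 0, -1, 0, -1, -1, -2, 0, 0, -1, 0, 0, -2, 4],
  [0, 0, 0, 0, 1, 1, -1, 0, 0, 1, -1, 0, 0, -1, 0, 1, -1, -1, 0, -1, -1, 0, 0, 2],
  [0, 2, 0, 0, 0, -2, 0, 0, 0, 0, 0, 0, -1, 0, 0, -1, -1, 1, 1, -1, 1, 1, -1, 1],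
  [0, 0, 0, 0, 0, -2, -1, -1, -1, -1, 0, 1, 0, 1, 2, 1, 1, 2, 2, 2, 2, 2, 1, -7],
  [1, 1, 0, 0, 0, -1, 0, 0, 0, 0, 0, 0, -1, 0, -1, -1, -1, 0, 0, 0, 1, 0, -1, 2],
  [1, 1, 0, 0, 0, -1, 0, 0, 0, 0, 0, 0, -1, 0, -1, -1, -1, 0, 0, 0, 0, 1, -1, 2],
  [0, 1, 0, 0, 0, -1, 0, 0, 0, 0, 1, 0, -1, 0, -1, -1, -1, 1, 0, 0, 0, 0, -1, 2],
  [1, 2, 1, 0, 1, 0, 0, 0, 0, 0, 1, -1, -3, -2, -2, -2, -2, -1, -1, -1, -1, 0, -2, 7],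
  [1, 1, 0, 0, 0, -1, 0, 0, 1, 0, 0, 0, -1, -1, -1, -1, -1, 0, -1, -1, 0, 0, -1, 4],
  [1, 1, 1, 0, 1, -1, 0, 0, 1, 0, 1, -1, -2, -1, -1, -2, -2, 0, -1, -1, -1, 0, -1, 5],
  [1, 1, 0, 0, 0, -1, 0, 0, 0, -1, 0, 0, -1, 0, 0, -1, 0, 1, 0, 0, 1, 1, -1, 0],
  [2, 2, 1, 2, 1, 0, 1, 1, 1, 1, 2, -2, -5, -3, -4, -4, -4, -3, -4, -4, -3, -3, -4, 18],
  [1, 1, -1, 0, 1, -1, 0, 0, 0, -1, 0, 0, -1, 0, 0, 0, -1, 0, 0, 0, 1, 1, 0, 0],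
  [1, 2, 0, 0, 0, -2, 0, 0, 0, -1, 1, 0, -2, 0, -1, -2, -1, 1, 0, 0, 1, 1, -1, 2]]

noncomputable def K' : List (List ℤ) :=
  [[-1, 0, -1, -1, 0, -1, -1, 0, 0, 0, -1, 0, -1, -1, -1, 0, -1, 0, -1, 0, 0, -1, -1, -1],
  [0, 0, 0, 1, 1, 0, 0, 1, 0, 1, -1, 0, 0, 0, 0, 0, -1, 1, 0, 1, 0, 0, 0, 0],
  [1, 0, -1, 0, 0, -1, 0, 0, -1, 0, -1, 0, 0, -1, 0, 0, 0, 1, 0, 0, -1, 0, 0, 0],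
  [0, 0, 0, 0, 0, 0, 0, 0, 0, 1, 0, 1, -1, -1, 0, 0, -1, 0, -1, -1, 0, 0, 0, -1],
  [0, 0, 0, 0, 1, 0, -1, 0, 0, 0, 0, 0, 0, 0, 0, 0, 0, 1, 0, 0, 0, 0, -1, 0],
  [0, -1, -1, -1, 0, -1, -2, -1, -1, 0, -1, 0, -1, -1, -1, -1, 0, 0, -1, -1, 0, -1, -1, -1],
  [1, 0, 0, 1, 1, 0, 0, 0, 0, 1, 0, 0, 1, 0, 0, 0, 0, 1, 0, 1, 1, 1, 1, 1],
  [0, -1, 0, 0, 0, 0, -1, 0, 0, 0, -1, 0, 0, -1, -1, -1, -1, 0, 0, -1, 0, 0, -1, -1],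
  [0, -2, -1, 0, 0, 0, -1, -1, -1, 0, -1, -1, 0, 0, 0, 0, 0, 2, 0, 0, 0, 1, 0, 1],
  [0, -1, 0, 0, 1, 1, -1, 1, 0, 0, 0, 0, 0, 0, 0, 0, -1, 1, 0, 0, 1, 0, -1, 0],
  [0, -1, -1, 0, 0, 0, -1, 0, -1, 0, -1, 0, 0, 0, 0, -1, -1, 1, 0, 0, 0, 0, -1, 0],
  [0, -1, 0, 0, 0, 1, -1, 0, -1, 0, -1, 0, 0, 0, 0, 0, -1, 1, 0, -1, 0, 0, 0, 0],
  [0, 1, 0, 0, 0, -1, 0, 0, 0, 0, 0, 0, 0, 0, 0, 0, 0, 0, 0, 0, 0, 0, 0, 0],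
  [0, 0, -1, 0, 0, -2, -1, -1, -1, 0, -1, 0, -1, -1, -1, -1, 0, 0, -1, 0, -1, -1, 0, -1],
  [0, 0, 0, 0, 1, -1, -1, 0, 0, 0, -1, 0, 0, 0, -1, -1, 0, 0, 0, 1, 1, -1, 0, 0],
  [0, 0, -1, 1, 0, -1, 0, -1, 0, 0, -1, 0, 0, 0, -1, -1, 0, 0, 0, 1, -1, 1, 0, 0],
  [-1, 0, -1, 0, 1, -1, -1, 0, 0, 0, 0, 0, 0, 0, -1, 0, 0, 1, -1, 1, 0, 0, -1, 0],
  [-1, 0, -1, -1, 0, -1, -1, -1, 0, 0, 0, 0, -1, -1, -1, -1, 0, -1, -1, 0, 0, 0, -1, -1],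
  [0, 0, -1, -1, 0, -2, -1, -1, 0, 0, 0, 0, 0, -1, -1, 0, 1, 0, -1, 0, 0, 0, 0, 0],
  [1, 1, 1, 1, 2, 0, 0, 0, 1, 1, 1, 0, 1, 1, 0, 0, 1, 1, 0, 1, 1, 1, 1, 1],
  [1, 0, -1, 0, 1, 0, -1, 0, 0, 0, 0, 0, 0, 0, 0, -1, 1, 1, 0, 0, 0, 0, -1, 0],
  [0, 0, -1, 0, 0, -1, -1, -1, -1, 0, 0, 0, 0, 0, 0, -1, 0, 0, -1, 0, 0, 0, 0, 0],
  [0, 1, -1, 0, 1, -1, 0, 0, 0, 0, 0, 0, 0, 0, 0, 0, 0, 0, -1, 1, 0, 0, 0, 0],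
  [0, 1, -1, 0, 1, -2, -1, -1, 0, 0, 0, 0, 0, 0, -1, -1, 1, 0, -1, 1, 0, 0, 0, 0]]

theorem isoK : chkIso K K' = true :=
  by decide +kernel

noncomputable def E : List (List ℤ) :=
  [[1, 0, 0, 0, 0, 0, 0, 0, 0, 0, 0, 0, -1, 0, 0, 0, 0, 0, -1, 0, 0, 0, -1, 1],
  [0, -1, 0, 0, 0, 0, 0, 0, 0, 0, 0, 0, 0, 1, 1, 0, 1, 0, 0, 1, 0, 0, 0, -2],
  [0, 0, 1, 0, 0, 0, 0, 0, 0, 0, 0, 0, -1, 0, 0, -1, 0, 0, -1, 0, -1, 0, -1, 2],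
  [0, 0, 0, -1, 0, 0, 0, 0, 0, 0, 0, 0, 0, 1, 0, 0, 0, 1, 0, 1, 0, 1, 0, -2],
  [0, 0, 0, 0, -1, 0, 0, 0, 0, 0, 0, 0, 0, 1, 0, 0, 1, 1, 0, 1, 0, 0, 0, -2],
  [0, 0, 0, 0, 0, -1, 0, 0, 0, 0, 0, 0, 0, 1, 1, 0, 0, 1, 0, 0, 0, 1, 0, -2],
  [0, 0, 0, 0, 0, 0, 1, 0, 0, 0, 0, 0, 0, 0, 0, -1, 0, 0, -1, 0, 0, 0, -1, 1],
  [0, 0, 0, 0, 0, 0, 0, 1, 0, 0, 0, 0, -1, 0, 0, -1, 0, 0, -1, 0, -1, 0, 0, 2],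
  [0, 0, 0, 0, 0, 0, 0, 0, -1, 0, 0, 0, 0, 1, 0, 0, 1, 0, 0, 1, 0, 1, 0, -2],
  [0, 0, 0, 0, 0, 0, 0, 0, 0, 1, 0, 0, 0, 0, 0, 0, 0, 0, 0, 0, -1, 0, -1, 1],
  [0, 0, 0, 0, 0, 0, 0, 0, 0, 0, 1, 0, -1, 0, 0, -1, 0, 0, 0, 0, -1, 0, 0, 1],
  [1, 0, 1, 0, 0, 0, 1, 1, 0, 1, 1, -1, -2, 0, -2, -2, -1, -1, -2, -1, -2, -1, -2, 7],
  [0, 0, 0, 0, 0, 0, 0, 0, 0, 0, 0, 0, -1, 0, 0, 0, 0, 0, 0, 0, 0, 0, 0, 0],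
  [0, 0, 0, 0, 0, 0, 0, 0, 0, 0, 0, 0, 0, 1, 0, 0, 0, 0, 0, 0, 0, 0, 0, -1],
  [0, 0, 0, 0, 0, 0, 0, 0, 0, 0, 0, 0, 0, 0, 1, 0, 0, 0, 0, 0, 0, 0, 0, -1],
  [0, 0, 0, 0, 0, 0, 0, 0, 0, 0, 0, 0, 0, 0, 0, -1, 0, 0, 0, 0, 0, 0, 0, 0],
  [0, 0, 0, 0, 0, 0, 0, 0, 0, 0, 0, 0, 0, 0, 0, 0, 1, 0, 0, 0, 0, 0, 0, -1],
  [0, 0, 0, 0, 0, 0, 0, 0, 0, 0, 0, 0, 0, 0, 0, 0, 0, 1, 0, 0, 0, 0, 0, -1],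
  [0, 0, 0, 0, 0, 0, 0, 0, 0, 0, 0, 0, 0, 0, 0, 0, 0, 0, -1, 0, 0, 0, 0, 0],
  [0, 0, 0, 0, 0, 0, 0, 0, 0, 0, 0, 0, 0, 0, 0, 0, 0, 0, 0, 1, 0, 0, 0, -1],
  [0, 0, 0, 0, 0, 0, 0, 0, 0, 0, 0, 0, 0, 0, 0, 0, 0, 0, 0, 0, -1, 0, 0, 0],
  [0, 0, 0, 0, 0, 0, 0, 0, 0, 0, 0, 0, 0, 0, 0, 0, 0, 0, 0, 0, 0, 1, 0, -1],
  [0, 0, 0, 0, 0, 0, 0, 0, 0, 0, 0, 0, 0, 0, 0, 0, 0, 0, 0, 0, 0, 0, -1, 0],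
  [0, 0, 0, 0, 0, 0, 0, 0, 0, 0, 0, 0, 0, 0, 0, 0, 0, 0, 0, 0, 0, 0, 0, -1]]

noncomputable def E' : List (List ℤ) :=
  [[0, 0, -2, -1, 0, 0, -1, 0, 0, 1, 0, 1, -2, -1, 0, -1, 0, 0, -2, -1, -1, -1, -2, -2],
  [0, 0, -1, 0, 1, 1, 0, 0, 1, 1, 0, 0, -1, 1, 1, -1, 1, 0, 0, 1, 0, 0, -1, 0],
  [-2, -1, -2, -1, -1, -1, -2, -2, -1, -1, -2, 0, -2, 0, -1, -2, -1, -1, -2, -1, -2, -1, -2, -2],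
  [-1, 0, -1, 0, 1, 1, 0, 0, 1, 1, 0, 0, -1, 1, 0, 0, 0, 1, -1, 1, 0, 1, -1, 0],
  [0, 1, -1, 1, 0, 0, 0, 0, 1, 1, -1, 1, -2, 0, -1, -1, 0, 0, -1, 0, -2, -1, -1, -2],
  [0, 1, -1, 1, 0, 0, 0, 0, 0, 1, 0, 1, -1, 0, 0, -1, -1, 0, -2, -1, -2, 0, -1, -2],
  [-1, 0, -2, 0, 0, 0, 0, 0, 0, 1, 0, 1, -1, -1, 0, -2, -1, -1, -2, 0, -1, 0, -2, -2],
  [0, 0, -2, 0, 0, 0, 0, 0, -1, 1, -1, 0, -1, 0, 1, -1, 0, 1, -1, 1, -1, 0, 0, 0],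
  [0, 1, -1, 1, 1, 0, 0, -1, 0, 1, 0, 0, 0, 1, 0, -1, 1, 0, -1, 1, -1, 1, 0, 0],
  [1, 1, -1, 1, 1, 1, 1, 1, 1, 2, 1, 1, 0, 0, 1, 0, 1, 1, 0, 1, -1, 1, -1, 0],
  [0, 0, -2, 0, -1, 0, 0, -1, 0, 1, 0, 1, -2, -1, 0, -2, 0, -1, -1, -1, -2, 0, -1, -2],
  [1, 0, 0, 0, 1, 1, 1, 0, 0, 1, 1, -1, 1, 2, 2, 1, 2, 2, 1, 2, 1, 2, 1, 3],
  [-2, -1, -2, -1, -2, -1, -1, -1, 0, 0, -2, 1, -4, -2, -2, -2, -2, -2, -2, -2, -2, -2, -2, -4],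
  [-1, 1, 0, 1, 0, 0, -1, 0, 1, 0, -1, 2, -2, 0, -2, -2, -2, -2, -2, -2, -2, -2, -2, -4],
  [0, 1, -1, 0, -1, 0, 0, 1, 0, 1, 0, 2, -2, -2, 0, -2, -2, -2, -2, -2, -2, -2, -2, -4],
  [-1, -1, -2, 0, -1, -1, -2, -1, -1, 0, -2, 1, -2, -2, -2, -4, -2, -2, -2, -2, -2, -2, -2, -4],
  [0, 1, -1, 0, 0, -1, -1, 0, 1, 1, 0, 2, -2, -2, -2, -2, 0, -2, -2, -2, -2, -2, -2, -4],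
  [0, 0, -1, 1, 0, 0, -1, 1, 0, 1, -1, 2, -2, -2, -2, -2, -2, 0, -2, -2, -2, -2, -2, -4],
  [-2, 0, -2, -1, -1, -2, -2, -1, -1, 0, -1, 1, -2, -2, -2, -2, -2, -2, -4, -2, -2, -2, -2, -4],
  [-1, 1, -1, 1, 0, -1, 0, 1, 1, 1, -1, 2, -2, -2, -2, -2, -2, -2, -2, 0, -2, -2, -2, -4],
  [-1, 0, -2, 0, -2, -2, -1, -1, -1, -1, -2, 1, -2, -2, -2, -2, -2, -2, -2, -2, -4, -2, -2, -4],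
  [-1, 0, -1, 1, -1, 0, 0, 0, 1, 1, 0, 2, -2, -2, -2, -2, -2, -2, -2, -2, -2, 0, -2, -4],
  [-2, -1, -2, -1, -1, -1, -2, 0, 0, -1, -1, 1, -2, -2, -2, -2, -2, -2, -2, -2, -2, -2, -4, -4],
  [-2, 0, -2, 0, -2, -2, -2, 0, 0, 0, -2, 3, -4, -4, -4, -4, -4, -4, -4, -4, -4, -4, -4, -8]]

theorem isoE : chkIso E E' = true :=
  by decide +kernel

noncomputable def Xi : List (List ℤ) :=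
  [[1, 0, 0, 0, 0, 0, 1, 0, 0, 1, 1, 0, -1, 0, -2, -1, -1, -1, -1, -1, -1, -1, -1, 5],
  [0, 0, 0, 0, 0, 0, 1, 0, 1, 0, 1, 0, 0, 0, -1, -1, -1, 0, -1, -1, -1, -1, 0, 3],
  [0, 1, 0, 0, 0, 0, 0, 1, 1, 1, 1, 0, -1, -1, -2, -2, -2, -1, -1, -2, -2, -1, -1, 8],
  [0, 0, 1, 0, 0, 0, 0, 0, 1, 1, 1, 0, -1, -1, -1, -1, -1, 0, -1, -1, -2, -1, -1, 5],
  [0, 0, 0, 1, 0, 0, 1, 1, 1, 0, 0, 0, -1, -1, -1, -1, 0, -1, -2, -2, -1, -1, -1, 6],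
  [0, 0, 0, 0, 1, 0, 0, 1, 1, 1, 0, 0, -1, -1, -1, -1, -1, -1, -1, -2, -2, -1, 0, 6],
  [0, 0, 0, 0, 0, 0, 0, 0, 0, 1, 1, 0, 0, 0, -1, 0, -1, 0, 0, 0, -1, -1, 0, 2],
  [0, 0, 0, 0, 0, 0, 0, 1, 0, 1, 0, 0, 0, 0, -1, 0, 0, -1, 0, -1, -1, 0, 0, 2],
  [0, 0, 0, 0, 0, 1, 1, 1, 1, 1, 0, 0, 0, -1, -2, -1, -1, -1, -2, -2, -2, -2, -1, 7],
  [0, 0, 0, 0, 0, 0, 1, 1, 0, 0, 1, 0, -1, 0, -1, -1, 0, 0, -1, -1, -1, -1, 0, 3],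
  [0, 0, 0, 0, 0, 0, 1, 1, 0, 0, 0, 0, 0, 0, -1, -1, 0, 0, -1, -1, 0, 0, 0, 2],
  [0, 0, 0, 0, 0, 0, 0, 0, 0, 0, 0, 1, 0, 0, 0, 0, 0, 0, 0, 0, 0, 0, 0, 0],
  [0, 0, 0, 0, 0, 0, 0, 0, 0, 0, 0, 0, 0, 0, 0, 0, 0, 0, 0, 0, 0, 1, 0, 0],
  [0, 0, 0, 0, 0, 0, 0, 0, 2, 0, 0, 0, 0, -1, 0, -1, -1, 0, -1, -1, -1, -1, 0, 4],
  [0, 0, 0, 0, 0, 0, 0, 0, 0, 0, 0, 0, 0, 0, 0, 0, 0, 0, 0, 0, 0, 0, 1, 0],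
  [0, 0, 0, 0, 0, 0, 0, 0, 0, 0, 0, 0, 1, 0, 0, 0, 0, 0, 0, 0, 0, 0, 0, 0],
  [0, 0, 0, 0, 0, 0, 2, 0, 0, 0, 0, 0, 0, 0, -1, -1, 0, 0, -1, -1, 0, -1, -1, 3],
  [0, 0, 0, 0, 0, 0, 0, 0, 0, 0, 0, 0, 0, 0, 0, 0, 1, 0, 0, 0, 0, 0, 0, 0],
  [0, 0, 0, 0, 0, 0, 0, 0, 0, 2, 0, 0, 0, 0, -1, 0, -1, -1, 0, -1, -1, -1, -1, 4],
  [0, 0, 0, 0, 0, 0, 0, 0, 0, 0, 0, 0, 0, 0, 0, 1, 0, 0, 0, 0, 0, 0, 0, 0],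
  [0, 0, 0, 0, 0, 0, 0, 2, 0, 0, 0, 0, -1, 0, -1, -1, 0, -1, -1, -1, -1, 0, 0, 4],
  [0, 0, 0, 0, 0, 0, 0, 0, 0, 0, 0, 0, 0, 0, 0, 0, 0, 1, 0, 0, 0, 0, 0, 0],
  [0, 0, 0, 0, 0, 0, 0, 0, 0, 0, 2, 0, -1, 0, -1, -1, -1, 0, 0, 0, -1, -1, 0, 3],
  [0, 0, 0, 0, 0, 0, 0, 0, 0, 0, 0, 0, 0, 0, 0, 0, 0, 0, 0, 0, 0, 0, 0, 1]]

noncomputable def Xi' : List (List ℤ) :=
  [[2, 1, 1, 1, 1, 1, 2, 0, 1, 2, 2, 1, 1, 1, 1, 1, 2, 1, 1, 1, 1, 2, 2, 2],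
  [1, 2, 2, 2, 1, 1, 2, 1, 2, 1, 2, 2, 1, 1, 0, 1, 0, 0, 0, 0, 0, 1, 1, 0],
  [1, 1, 1, 1, 1, 1, 1, 1, 1, 1, 2, 1, 2, 1, 1, 1, 1, 1, 1, 1, 1, 2, 1, 2],
  [1, 1, 1, 1, 1, 1, 1, 1, 2, 2, 2, 2, 0, 0, 0, 1, 1, 1, 0, 0, 0, 1, 0, 0],
  [1, 1, 1, 1, 1, 1, 2, 1, 2, 1, 2, 1, 1, 1, 1, 2, 2, 1, 1, 1, 1, 2, 1, 2],
  [2, 1, 1, 1, 2, 1, 1, 1, 1, 2, 1, 1, 1, 1, 1, 1, 2, 2, 1, 1, 1, 1, 2, 2],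
  [2, 2, 2, 2, 2, 1, 2, 2, 1, 2, 2, 1, 2, 1, 1, 2, 1, 2, 1, 2, 1, 1, 2, 2],
  [2, 2, 2, 2, 1, 1, 2, 2, 2, 2, 2, 2, 1, 0, 0, 1, 1, 0, 1, 0, 0, 1, 1, 0],
  [1, 1, 1, 1, 1, 1, 1, 2, 1, 1, 1, 2, 1, 0, 0, 1, 0, 1, 0, 0, 0, 0, 0, 0],
  [2, 2, 1, 1, 1, 1, 2, 2, 1, 2, 2, 2, 0, 0, 1, 1, 1, 1, 0, 0, 0, 0, 1, 0],
  [2, 1, 2, 2, 2, 2, 2, 2, 1, 2, 2, 1, 2, 1, 1, 1, 1, 2, 1, 1, 2, 2, 2, 2],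
  [1, 2, 1, 2, 1, 1, 1, 2, 2, 2, 1, 4, -1, -1, -1, -1, -1, -1, -1, -1, -1, -1, -1, -3],
  [1, 0, 1, 1, 1, 2, 2, 0, 1, 1, 2, -1, 2, 2, 2, 2, 2, 2, 2, 2, 2, 4, 2, 4],
  [1, 0, 1, 0, 1, 1, 1, 0, 1, 0, 1, -1, 2, 2, 2, 2, 2, 2, 2, 2, 2, 2, 2, 4],
  [2, 1, 2, 1, 1, 1, 2, 0, 0, 1, 1, -1, 2, 2, 2, 2, 2, 2, 2, 2, 2, 2, 4, 4],
  [2, 1, 2, 1, 2, 1, 1, 1, 0, 0, 2, -1, 4, 2, 2, 2, 2, 2, 2, 2, 2, 2, 2, 4],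
  [1, 0, 1, 0, 1, 1, 2, 0, 0, 0, 1, -1, 2, 2, 2, 2, 2, 2, 2, 2, 2, 2, 2, 4],
  [2, 1, 1, 0, 2, 1, 1, 0, 1, 1, 2, -1, 2, 2, 2, 2, 4, 2, 2, 2, 2, 2, 2, 4],
  [1, 0, 1, 0, 1, 1, 1, 0, 0, 1, 1, -1, 2, 2, 2, 2, 2, 2, 2, 2, 2, 2, 2, 4],
  [1, 1, 2, 0, 1, 1, 2, 1, 1, 0, 2, -1, 2, 2, 2, 4, 2, 2, 2, 2, 2, 2, 2, 4],
  [1, 0, 1, 0, 1, 1, 1, 1, 0, 0, 1, -1, 2, 2, 2, 2, 2, 2, 2, 2, 2, 2, 2, 4],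
  [2, 0, 1, 1, 2, 2, 1, 1, 0, 1, 1, -1, 2, 2, 2, 2, 2, 4, 2, 2, 2, 2, 2, 4],
  [1, 0, 1, 0, 1, 1, 1, 0, 0, 0, 2, -1, 2, 2, 2, 2, 2, 2, 2, 2, 2, 2, 2, 4],
  [2, 0, 2, 0, 2, 2, 2, 0, 0, 0, 2, -3, 4, 4, 4, 4, 4, 4, 4, 4, 4, 4, 4, 8]]

theorem isoXi : chkIso Xi Xi' = true :=
  by decide +kernel

noncomputable def j : Co0 :=
  elt J J' isoJ

theorem hj : j * permHom (mc y7) = (permHom (mc y7))⁻¹ * j :=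
  by
  rw [← map_inv, inv_y7, permHom_eq_elt ok_y7i isoXi (by decide +kernel), x_eq]
  exact elt_mul_eq _ _ _ _ (by decide +kernel)

theorem hE : isCW 13932858 = true :=
  by decide +kernel

theorem hK : ∃ k : Co0, j = k * sgn (setOf' 13932858) (setOf'_mem_codeSets hE) * k⁻¹ :=
  ⟨elt K K' isoK, by
    rw [eq_mul_inv_iff_mul_eq, sgn_eq_elt hE isoE (by decide +kernel)]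
    exact elt_mul_eq _ _ _ _ (by decide +kernel)⟩

theorem hEc : (setOf' 13932858).card = 12 :=
  by rw [card_setOf']; decide +kernel

theorem hOrb : (frOrb (permHom (mc y7))).ncard ≤ 7 :=
  by
  have := (two_mul_frOrb_le not_real_y7 hj hF0.1).2
  rw [nT] at this
  omega

theorem hC : Nat.card (centralizer ({permHom (mc y7)} : Set Co0)) ≤ 2 * orderOf (permHom (mc y7)) * 168 :=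
  ho ▸ card_cent_le (hOrb) nI cent_y7

theorem model : Nat.card (gen ns G_ss0) = 168 ∧ ∃ ρ : centralizer ({permHom (mc y7)} : Set Co0) →* gen ns G_ss0,
    Function.Surjective ρ ∧ (∀ g, ρ g = 1 ↔ (g : Co0) ∈ zpowers (negOne * permHom (mc y7))) ∧
    ∀ g : centralizer ({permHom (mc y7)} : Set Co0), RepBy 64 (lpt 64 P []) (g : Co0) (ρ g : Equiv.Perm ℕ) :=
  exists_model (ho ▸ by decide) reps inj hx G_lb hC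

theorem G_card : Nat.card (gen ns G_ss0) = 168 :=
  model.1

theorem G_eq : gen ns G_ss0 = cgrp ns G_C0 :=
  eq_of_le_of_lb ctx G_le0 G_card G_lb0

theorem G_card0 : Nat.card (cgrp ns G_C0) = 168 :=
  G_eq ▸ G_card

theorem G_st0 : IsStab 64 (gen ns G_l0.ws) (cgrp ns G_C1) G_l0.b G_D0 :=
  isStab_known ctx G_card0 G_lb1 G_lv0 (by decide +kernel)

theorem G_card1 : Nat.card (cgrp ns G_C1) = 24 :=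
  card_step ctx G_st0 G_card0 (by decide +kernel)

theorem G_st1 : IsStab 64 (gen ns G_l1.ws) (cgrp ns G_C2) G_l1.b G_D1 :=
  isStab_known ctx G_card1 G_lb2 G_lv1 (by decide +kernel)

theorem G_card2 : Nat.card (cgrp ns G_C2) = 4 :=
  card_step ctx G_st1 G_card1 (by decide +kernel)

theorem G_st2 : IsStab 64 (gen ns G_l2.ws) (cgrp ns G_C3) G_l2.b G_D2 :=
  isStab_known ctx G_card2 G_lb3 G_lv2 (by decide +kernel)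

theorem G_ver3 : Ver ns G_C3 1 :=
  ver_nil _

theorem G_ver2 : Ver ns G_C2 4 :=
  G_ver3.cons ctx G_st2 (by decide +kernel)

theorem G_ver1 : Ver ns G_C1 24 :=
  G_ver2.cons ctx G_st1 (by decide +kernel)

theorem G_ver0 : Ver ns G_C0 168 :=
  G_ver1.cons ctx G_st0 (by decide +kernel)

theorem faithful : FaithfulOn 64 (gen ns G_l0.ws) G_D0 :=
  (G_st0.faithfulOn (by decide +kernel) (G_st1.faithfulOn (by decide +kernel) (G_st2.faithfulOn (by decide +kernel) (cgrp_nil ns ▸ faithfulOn_bot _ _))))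

theorem o2 : ∀ T : Subgroup (gen ns G_ss0), T.Normal → IsPGroup 2 T → T = ⊥ :=
  by
  have : Finite (cgrp ns G_C0) := finite_gen ctx.ok _
  rw [G_eq]
  exact two_eq_bot G_st0 faithful (by rw [← pcN_eq ctx.le]; decide +kernel)

theorem cdata0 : ∃ ρ : centralizer ({permHom (mc y7)} : Set Co0) →* gen ns G_ss0, CData (permHom (mc y7)) 64 ρ :=
  model.2.imp fun _ h => cdata_of (ho ▸ by decide) inj hF h o2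

noncomputable def ans_0 : Net :=
 (Net.cons (nat_lit 4) 6
 (Net.cons (nat_lit 1) 17
 Net.nil))

noncomputable def ans_1 : Net :=
 (Net.cons (nat_lit 4) 4
 (Net.cons (nat_lit 2) 18
 (Net.cons (nat_lit 4) 4
 Net.nil)))

noncomputable def ans_2 : Net :=
 (Net.cons (nat_lit 4) 4
 (Net.cons (nat_lit 2) 48
 (Net.cons (nat_lit 1) 68
 (Net.cons (nat_lit 2) 34
 (Net.cons (nat_lit 4) 2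
 Net.nil)))))

noncomputable def ans_3 : Net :=
 (Net.cons (nat_lit 4) 8
 (Net.cons (nat_lit 2) 48
 (Net.cons (nat_lit 4) 8
 Net.nil)))

noncomputable def ans_4 : Net :=
 (Net.cons (nat_lit 4) 8
 (Net.cons (nat_lit 2) 48
 (Net.cons (nat_lit 1) 80
 (Net.cons (nat_lit 4) 8
 Net.nil))))

noncomputable def ans : List Net := [ans_0, ans_1, ans_2, ans_3, ans_4]

theorem actx : Ctx 8 3 ans := ctx_of (by decide +kernel)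

noncomputable def A_C3 : List Lvl :=
  []

noncomputable def A_ss2 : List (List ℕ) :=
  [[6], [8]]

noncomputable def A_D2 : ℕ :=
  120

noncomputable def A_l2 : Lvl :=
  ⟨3, [[6], [8]],
  tabA [(5, 768), (4, 770), (6, 1282)], 2⟩

noncomputable def A_C2 : List Lvl :=
  A_l2 :: A_C3

noncomputable def A_ss1 : List (List ℕ) :=
  [[4], [6]]

noncomputable def A_D1 : ℕ :=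
  126

noncomputable def A_l1 : Lvl :=
  ⟨1, [[4], [6], [8]],
  tabA [(4, 256), (3, 257), (2, 1024), (6, 1026), (5, 770)], 2⟩

noncomputable def A_C1 : List Lvl :=
  A_l1 :: A_C2

noncomputable def A_ss0 : List (List ℕ) :=
  [[0], [2]]

noncomputable def A_D0 : ℕ :=
  127

noncomputable def A_l0 : Lvl :=
  ⟨0, [[0], [2], [4], [6], [8]],
  tabA [(5, 0), (1, 1), (4, 1280), (6, 1284), (3, 1286), (2, 1026)], 3⟩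

noncomputable def A_C0 : List Lvl :=
  A_l0 :: A_C1

theorem A_lb3 : 1 ≤ Nat.card (cgrp ans A_C3) :=
  lb_nil _

theorem A_le2 : gen ans A_l2.ws ≤ gen ans A_ss2 :=
  gen_le_step actx (tgt := [])
  (es := []) (le_refl (gen _ [])) (by decide +kernel)

theorem A_lv2 : chkLvl 8 ans A_l2 A_C3 A_D2 1 = true :=
  by decide +kernel

theorem A_lb2 : 4 ≤ Nat.card (cgrp ans A_C2) :=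
  lb_step actx A_lv2 A_lb3 (by decide +kernel)

theorem A_le1 : gen ans A_l1.ws ≤ gen ans A_ss1 :=
  gen_le_step actx (tgt := [[6], [8]])
  (es := [([6], [3]), ([8], [3, 3, 5, 2, 5, 3, 5, 3])]) A_le2 (by decide +kernel)

theorem A_lv1 : chkLvl 8 ans A_l1 A_C2 A_D1 2 = true :=
  by decide +kernel

theorem A_lb1 : 24 ≤ Nat.card (cgrp ans A_C1) :=
  lb_step actx A_lv1 A_lb2 (by decide +kernel)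

theorem A_le0 : gen ans A_l0.ws ≤ gen ans A_ss0 :=
  gen_le_step actx (tgt := [[4], [6]])
  (es := [([4], [1, 3, 0, 3, 3, 3]), ([6], [2, 5, 2, 5, 3, 5, 3, 4, 2, 5])]) A_le1 (by decide +kernel)

theorem A_lv0 : chkLvl 8 ans A_l0 A_C1 A_D0 1 = true :=
  by decide +kernel

theorem A_lb0 : 168 ≤ Nat.card (cgrp ans A_C0) :=
  lb_step actx A_lv0 A_lb1 (by decide +kernel)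

theorem A_lb : 168 ≤ Nat.card (gen ans A_ss0) :=
  lb_of_le actx A_le0 A_lb0

noncomputable def Ms : ℕ → ℕ :=
  getL 0 [64,
 1024,
 4096,
 nat_lit 0x100000000,
 nat_lit 0x4000000000,
 nat_lit 0x40000000000,
 nat_lit 0x100000000000]

theorem eqv : Nonempty (gen ns G_ss0 ≃* gen ans A_ss0) :=
  by
  have := finite_gen ctx.ok G_ss0
  obtain ⟨e, -⟩ := exists_equiv_masks' ctx actx (K := gen ns G_ss0) (us := G_ss0) (ws' := A_ss0) le_rfl (n := 7) (M := Ms)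
    [0] 3 (by decide +kernel) (G_card.trans_le A_lb)
  exact ⟨e⟩

theorem trep0 : ∃ g ∈ (⊤ : Subgroup (Matrix.SpecialLinearGroup (Fin 3) (ZMod 2))), RepBy 7 vec3 g (wp ans [0]) :=
  rep_small actx (⟨!![0, 1, 0; 1, 0, 0; 1, 0, 1], by decide +kernel⟩ : Matrix.SpecialLinearGroup (Fin 3) (ZMod 2))
    (mem_top _) [5, 0, 6, 3, 1, 4, 2] (by decide +kernel) (by decide +kernel)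

theorem trep1 : ∃ g ∈ (⊤ : Subgroup (Matrix.SpecialLinearGroup (Fin 3) (ZMod 2))), RepBy 7 vec3 g (wp ans [2]) :=
  rep_small actx (⟨!![1, 0, 0; 0, 0, 1; 0, 1, 0], by decide +kernel⟩ : Matrix.SpecialLinearGroup (Fin 3) (ZMod 2))
    (mem_top _) [0, 3, 4, 1, 2, 5, 6] (by decide +kernel) (by decide +kernel)

theorem treps : Reps 7 vec3 (⊤ : Subgroup (Matrix.SpecialLinearGroup (Fin 3) (ZMod 2))) ans A_ss0 :=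
  Reps.cons trep0 (Reps.cons trep1 (Reps.nil))

theorem cdata : ∃ ρ : centralizer ({permHom (mc y7)} : Set Co0) →* Matrix.SpecialLinearGroup (Fin 3) (ZMod 2), CData (permHom (mc y7)) 64 ρ :=
  by
  obtain ⟨ρ, h⟩ := cdata0
  obtain ⟨e⟩ := eqv
  obtain ⟨e', -⟩ := treps.exists_equiv (MonoidHom.id _) vec3_inj (fun g _ => ⟨g, rfl⟩) ((card_SL_three_two.le).trans A_lb)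
  exact ⟨_, h.of_equiv (e.trans e'.symm)⟩

end Cfsg.Agent.Mont.C7
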