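import Cfsg.Agent.Mont.Cent
import Cfsg.Agent.Mont.M24c
import Cfsg.Agent.Mont.Tgt

set_option autoImplicit false
set_option maxRecDepth 4096

namespace Cfsg.Agent.Mont.C5

open Cfsg.Agent.Comp

noncomputable def ns_0 : Net :=
 (Net.cons (nat_lit 128) (nat_lit 0x3c3c3c3cc3c3c3c3c3c3c3c33c3c3c3c)
 (Net.cons (nat_lit 64) (nat_lit 0x3cc3c33c3cc3c33c00000000000000003cc3c33c3cc3c33c)
 (Net.cons (nat_lit 32) (nat_lit 0xff00ff000000000000ff00ff0000000000ff00ff00000000ff00ff00)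
 (Net.cons (nat_lit 16) (nat_lit 0x969600009696000069690000696900006969000069690000969600009696)
 (Net.cons (nat_lit 8) (nat_lit 0xcc00cc00cc00cc00cc00cc00cc00cc00cc00cc00cc00cc00cc00cc00cc00cc)
 (Net.cons (nat_lit 4) (nat_lit 0xc03030c0c03030c0c03030c0c03030c0c03030c0c03030c0c03030c0c03030c)
 (Net.cons (nat_lit 2) (nat_lit 0x2121121221211212212112122121121221211212212112122121121221211212)
 (Net.cons (nat_lit 1) (nat_lit 0x5500550055005500005500550055005500550055005500555500550055005500)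
 (Net.cons (nat_lit 8) (nat_lit 0xf000f000f000f000f000f000f000f000f000f000f000f000f000f000f000f0)
 (Net.cons (nat_lit 64) (nat_lit 0xffffffff000000000000000000000000ffffffff00000000)
 (Net.cons (nat_lit 128) (nat_lit 0xffffffffffffffff0000000000000000)
 Net.nil)))))))))))

noncomputable def ns_1 : Net :=
 (Net.cons (nat_lit 64) (nat_lit 0x996699669966996600000000000000009966996699669966)
 (Net.cons (nat_lit 32) (nat_lit 0x66666666000000006666666600000000666666660000000066666666)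
 (Net.cons (nat_lit 8) (nat_lit 0x66006600990099009900990066006600660066009900990099009900660066)
 (Net.cons (nat_lit 4) (nat_lit 0xf000f000f000f0f000f000f000f00000f000f000f000f0f000f000f000f00)
 (Net.cons (nat_lit 2) (nat_lit 0x3333333300000000333333330000000033333333000000003333333300000000)
 (Net.cons (nat_lit 8) (nat_lit 0xf000f000f000f000f000f000f000f000f000f000f000f000f000f000f000f0)
 (Net.cons (nat_lit 64) (nat_lit 0xff00ff00ff00ff000000000000000000ff00ff00ff00ff00)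
 Net.nil)))))))

noncomputable def ns_2 : Net :=
 (Net.cons (nat_lit 128) (nat_lit 0x5aa55aa5a55aa55a5aa55aa5a55aa55a)
 (Net.cons (nat_lit 64) (nat_lit 0x3c3cc3c3c3c33c3c00000000000000003c3cc3c3c3c33c3c)
 (Net.cons (nat_lit 32) (nat_lit 0xaaaaaaaa00000000aaaaaaaa00000000aaaaaaaa00000000aaaaaaaa)
 (Net.cons (nat_lit 16) (nat_lit 0xaaaa0000aaaa0000aaaa0000aaaa0000aaaa0000aaaa0000aaaa0000aaaa)
 (Net.cons (nat_lit 8) (nat_lit 0x99006600990066009900660099006600990066009900660099006600990066)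
 (Net.cons (nat_lit 4) (nat_lit 0xf000f00000f000f000f000f0f000f000f000f00000f000f000f000f0f000f00)
 (Net.cons (nat_lit 2) (nat_lit 0x1111222211112222111122221111222211112222111122221111222211112222)
 (Net.cons (nat_lit 64) (nat_lit 0xf0f0f0f0f0f0f0f00000000000000000f0f0f0f0f0f0f0f0)
 Net.nil))))))))

noncomputable def ns_3 : Net :=
 (Net.cons (nat_lit 128) (nat_lit 0x33cc33cc33cc33cc33cc33cc33cc33cc)
 (Net.cons (nat_lit 64) (nat_lit 0xcccccccccccccccc0000000000000000cccccccccccccccc)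
 (Net.cons (nat_lit 32) (nat_lit 0x3333cccc000000003333cccc000000003333cccc000000003333cccc)
 (Net.cons (nat_lit 8) (nat_lit 0x5a00a5005a00a500a5005a00a5005a005a00a5005a00a500a5005a00a5005a)
 (Net.cons (nat_lit 4) (nat_lit 0xc0c030303030c0c0c0c030303030c0c0c0c030303030c0c0c0c030303030c0c)
 (Net.cons (nat_lit 2) (nat_lit 0x3333333300000000333333330000000033333333000000003333333300000000)
 (Net.cons (nat_lit 64) (nat_lit 0xff00ff00ff00ff000000000000000000ff00ff00ff00ff00)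
 Net.nil)))))))

noncomputable def ns_4 : Net :=
 (Net.cons (nat_lit 128) (nat_lit 0x55aa55aaaa55aa55aa55aa5555aa55aa)
 (Net.cons (nat_lit 64) (nat_lit 0xff0f00ff00f0ff000000000000000000ff0f00ff00f0ff0)
 (Net.cons (nat_lit 32) (nat_lit 0x99999999000000009999999900000000666666660000000066666666)
 (Net.cons (nat_lit 16) (nat_lit 0x33330000cccc000033330000cccc000033330000cccc000033330000cccc)
 (Net.cons (nat_lit 8) (nat_lit 0xf0000f00f0000f00f0000f00f0000f000f00f0000f00f0000f00f0000f00f0)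
 (Net.cons (nat_lit 4) (nat_lit 0xc030c03030c030c030c030c0c030c03030c030c0c030c030c030c03030c030c)
 (Net.cons (nat_lit 2) (nat_lit 0x3003033030030330033030030330300303303003033030033003033030030330)
 (Net.cons (nat_lit 1) (nat_lit 0x5005055005505005055050055005055050050550055050050550500550050550)
 (Net.cons (nat_lit 4) (nat_lit 0xc0c0c0c0c0c0c0c0c0c0c0c0c0c0c0c0c0c0c0c0c0c0c0c0c0c0c0c0c0c0c0c)
 (Net.cons (nat_lit 8) (nat_lit 0xf000f000f000f000f000f000f000f000f000f000f000f000f000f000f000f0)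
 (Net.cons (nat_lit 64) (nat_lit 0xff00ff00ff00ff000000000000000000ff00ff00ff00ff00)
 Net.nil)))))))))))

noncomputable def ns_5 : Net :=
 (Net.cons (nat_lit 128) (nat_lit 0xf0f0f0f0f0f0f0ff0f0f0f0f0f0f0f0)
 (Net.cons (nat_lit 64) (nat_lit 0xff00ffff00ff00000000000000000000ff00ffff00ff00)
 (Net.cons (nat_lit 32) (nat_lit 0x5555aaaa000000005555aaaa000000005555aaaa000000005555aaaa)
 (Net.cons (nat_lit 8) (nat_lit 0x5500aa005500aa005500aa005500aa005500aa005500aa005500aa005500aa)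
 (Net.cons (nat_lit 4) (nat_lit 0xf000f0f000f00000f000f0f000f00000f000f0f000f00000f000f0f000f00)
 (Net.cons (nat_lit 2) (nat_lit 0x2222222222222222222222222222222222222222222222222222222222222222)
 Net.nil))))))

noncomputable def ns_6 : Net :=
 (Net.cons (nat_lit 128) (nat_lit 0xff00ff0f00ff00ff00ff00f0ff00ff0)
 (Net.cons (nat_lit 64) (nat_lit 0xf0f0f0f0f0f0f0f00000000000000000f0f0f0f0f0f0f0f0)
 (Net.cons (nat_lit 32) (nat_lit 0xffff000000000000ffff000000000000ffff000000000000ffff0000)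
 (Net.cons (nat_lit 8) (nat_lit 0xff000000ff000000ff000000ff000000ff000000ff000000ff000000ff0000)
 (Net.cons (nat_lit 4) (nat_lit 0xf0f0f0f0f0f0f0f00000000000000000f0f0f0f0f0f0f0f0000000000000000)
 (Net.cons (nat_lit 2) (nat_lit 0x1111222211112222111122221111222211112222111122221111222211112222)
 (Net.cons (nat_lit 64) (nat_lit 0xf0f0f0f0f0f0f0f00000000000000000f0f0f0f0f0f0f0f0)
 Net.nil)))))))

noncomputable def ns_7 : Net :=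
 (Net.cons (nat_lit 128) (nat_lit 0xff00ffff00ff0000ff00ffff00ff00)
 (Net.cons (nat_lit 64) (nat_lit 0xff00ffff00ff00000000000000000000ff00ffff00ff00)
 (Net.cons (nat_lit 32) (nat_lit 0x3333cccc000000003333cccc000000003333cccc000000003333cccc)
 (Net.cons (nat_lit 8) (nat_lit 0xc3003c00c3003c00c3003c00c3003c00c3003c00c3003c00c3003c00c3003c)
 (Net.cons (nat_lit 4) (nat_lit 0xf000f00000f000f000f000f0f000f000f000f00000f000f000f000f0f000f00)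
 (Net.cons (nat_lit 2) (nat_lit 0x333333330000000033333333000000003333333300000000333333330000)
 (Net.cons (nat_lit 8) (nat_lit 0xf000f000f000f000f000f000f000f000f000f000f000f000f000f000f000f0)
 Net.nil)))))))

noncomputable def ns : List Net := [ns_0, ns_1, ns_2, ns_3, ns_4, ns_5, ns_6, ns_7]

theorem ctx : Ctx 256 8 ns := ctx_of (by decide +kernel)

open Subgroup Cfsg Cfsg.Spor Cfsg.Agent.Spor Cfsg.Agent.Spor.Leech Cfsg.Agent.Spor.M24C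
open scoped Pointwise

noncomputable def G_C3 : List Lvl :=
  []

noncomputable def G_ss2 : List (List ℕ) :=
  [[10], [12]]

noncomputable def G_D2 : ℕ :=
  nat_lit 0x2000020000000000000000800000000000000000000000080

noncomputable def G_l2 : Lvl :=
  ⟨7, [[10], [12]],
  tabA [(173, 1792), (193, 1794), (107, 44290)], 2⟩

noncomputable def G_C2 : List Lvl :=
  G_l2 :: G_C3

noncomputable def G_ss1 : List (List ℕ) :=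
  [[4], [6]]

noncomputable def G_D1 : ℕ :=
  nat_lit 0x514000000440000015040000400400005140000004400000150400004004

noncomputable def G_l1 : Lvl :=
  ⟨2, [[4], [6], [14], [10], [12]],
  tabC 16 65535 [nat_lit 0xca05000002040000020500000000000000000000ca040000000000000000000000000000000000000000000000000000000000000000000000000000ca0600000000000000000000000000000000000000000000000000000000,
 nat_lit 0x20200006e040000000000004a030000ca0200000000000000000000000000000000000000000000000000000000000000000000000000000000000000000000000000000000000002010000000000006e05000000000000000000000000,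
 nat_lit 0x4a050000a80500000203000000000000000000004a040000000000000000000000000000000000000000000000000000000000000000000000000000ca0800000000000000000000000000000000000000000000ca0000000000,
 nat_lit 0x280300002a02000000000000ca0300004a0200000000000000000000000000000000000000000000000000000000000000000000000000000000000000000000000000000000000002000000000000000e00000000000000000000000000], 3⟩

noncomputable def G_C1 : List Lvl :=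
  G_l1 :: G_C2

noncomputable def G_ss0 : List (List ℕ) :=
  [[0], [2]]

noncomputable def G_D0 : ℕ :=
  nat_lit 0x20051489904245200c1352c02904005acc2f94004a08cf01512150624256084

noncomputable def G_l0 : Lvl :=
  ⟨128, [[0], [2], [8], [4], [6], [14], [10], [12]],
  tabC 16 65535 [nat_lit 0x1a0a0000b00700007a070000000000001a03000000004f06000000000000000055010000280300007d0400000000000000000000b0054f0c000000000000df0b0000000080040000000000000000310900000000d807000021000000df006b02000000000000000000004f020000000000000000a80800000000,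
 nat_lit 0x7d020000800100007d081a02000000004b071a0c00000000000000004b0600004b08a8094f0955004f0000000000070000006b0500000000000000000000000000000000000000000000b00b000000007d0b00007d030000000000000000000080000000000000004f036b04000000007d07d8043106b7040000000000000000,
 nat_lit 0x4f07b003000000000000000000008005000000006b081a010000a80300004f05000000004f0b00004b051a04000000000000000000000000000000007d0900006b07000000001a0600000000000000000000b70500000000000000000000000000000000000000000000df0400000000,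
 nat_lit 0x70600000000000000000000000000000000000000007f0000002800000000000000a8060000a500000000004f080000000000004f04000000001a07df03000000001a0b00000000000000000000b00200000000000000004f0e00000000b000000000000000ac050000070400000000b0010000], 3⟩

noncomputable def G_C0 : List Lvl :=
  G_l0 :: G_C1

theorem G_lb3 : 1 ≤ Nat.card (cgrp ns G_C3) :=
  lb_nil _

theorem G_le2 : gen ns G_l2.ws ≤ gen ns G_ss2 :=
  gen_le_step ctx (tgt := [])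
  (es := []) (le_refl (gen _ [])) (by decide +kernel)

theorem G_lv2 : chkLvl 256 ns G_l2 G_C3 G_D2 1 = true :=
  by decide +kernel

theorem G_lb2 : 4 ≤ Nat.card (cgrp ns G_C2) :=
  lb_step ctx G_lv2 G_lb3 (by decide +kernel)

theorem G_le1 : gen ns G_l1.ws ≤ gen ns G_ss1 :=
  gen_le_step ctx (tgt := [[10], [12], [14]])
  (es := [([10], [1, 3, 3, 0, 3]), ([12], [3, 5, 2, 5, 5]), ([14], [4, 7, 4, 7])]) G_le2 (by decide +kernel)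

theorem G_lv1 : chkLvl 256 ns G_l1 G_C2 G_D1 2 = true :=
  by decide +kernel

theorem G_lb1 : 96 ≤ Nat.card (cgrp ns G_C1) :=
  lb_step ctx G_lv1 G_lb2 (by decide +kernel)

theorem G_le0 : gen ns G_l0.ws ≤ gen ns G_ss0 :=
  gen_le_step ctx (tgt := [[4], [6], [8]])
  (es := [([4], [1, 2, 1, 3, 1, 3, 0, 3, 0, 3, 0, 2, 0, 2]), ([6], [2, 5, 2, 5, 3, 3, 4, 2, 2, 5, 3, 3]), ([8], [5, 6, 4, 6])]) G_le1 (by decide +kernel)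

theorem G_lv0 : chkLvl 256 ns G_l0 G_C1 G_D0 2 = true :=
  by decide +kernel

theorem G_lb0 : 7200 ≤ Nat.card (cgrp ns G_C0) :=
  lb_step ctx G_lv0 G_lb1 (by decide +kernel)

theorem G_lb : 7200 ≤ Nat.card (gen ns G_ss0) :=
  lb_of_le ctx G_le0 G_lb0

noncomputable def P : ℕ :=
  nat_lit 0xffffffffffffffffffffffffffffffff00000000000000000000000000000000ffffffffffffffff0000000000000000ffffffffffffffff0000000000000000ffffffff00000000ffffffff00000000ffffffff00000000ffffffff00000000ffff0000ffff0000ffff0000ffff0000ffff0000ffff0000ffff0000ffff00000000ffffffff00000000ffffffff00000000ffffffff00000000ffffffff0000ff00ff00ff00ff00ff00ff00ff00ff00ff00ff00ff00ff00ff00ff00ff00ff0000000000ffffffffffffffff0000000000000000ffffffffffffffff0000000000000000ffffffffffffffff0000000000000000ffffffffffffffff00000000f0f0f0f0f0f0f0f0f0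f0f0f0f0f0f0f0f0f0f0f0f0f0f0f0f0f0f0f0f0f0f0f000000000ffffffffffffffff0000000000000000ffffffffffffffff00000000ccccccccccccccccccccccccccccccccccccccccccccccccccccccccccccccccffffffffffffffff0000000000000000ffffffffffffffff0000000000000000aaaaaaaaaaaaaaaaaaaaaaaaaaaaaaaaaaaaaaaaaaaaaaaaaaaaaaaaaaaaaaaa00000000000000000000000000000000000000000000000000000000000000000000ffffffff00000000ffffffff00000000ffffffff00000000ffffffff0000cccccccccccccccccccccccccccccccccccccccccccccccccccccccccccccccc0000ffffffff00000000ffffffff00000000ffffffff00000000ffffffff000033333333cccccccc33333333cccccccc33333333cccccccc33333333cccccccccccccccccccccccccccccccccccccccccccccccccccccccccccccccccccccccc33333333cccccccc33333333cccccccc33333333cccccccc33333333cccccccc33333333cccccccc33333333cccccccc33333333cccccccc33333333cccccccc33333333cccccccc33333333cccccccc33333333cccccccc33333333cccccccc33333333cccccccc33333333cccccccc33333333cccccccc33333333cccccccccccc33333333cccccccc33333333cccccccc33333333cccccccc33333333cccc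

noncomputable def X : List (List ℤ) :=
  [[1, 0, 0, 0, 0, 0, 0, 0, 0, 1, 0, 0, 0, 0, -1, 0, -1, -1, 0, 0, 0, 0, -1, 2],
  [0, 0, 1, 0, 0, 1, 0, 0, 0, 1, 0, 0, 0, -1, -1, 0, 0, -1, -1, 0, -1, -1, -1, 3],
  [-1, -1, -1, 0, -1, -1, -1, -1, -1, -1, -1, 2, 3, 2, 3, 3, 3, 2, 3, 3, 3, 2, 2, -12],
  [0, 0, 0, 0, 1, 1, 0, 0, 0, 0, 0, 0, 0, -1, 0, 0, 0, -1, 0, 0, -1, 0, 0, 1],
  [-1, -1, -1, -1, -1, 0, 0, -1, -1, -1, -1, 2, 3, 2, 2, 2, 3, 2, 2, 3, 3, 2, 2, -11],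
  [-1, -1, -1, -1, -1, -1, -1, -1, 0, 0, -1, 2, 3, 2, 3, 2, 2, 2, 3, 2, 2, 2, 2, -10],
  [0, 1, 0, 0, 0, 1, 0, 0, 0, 1, 0, 0, 0, -1, -1, 0, -1, -1, 0, -1, -1, -1, -1, 4],
  [-1, -1, -1, -1, -1, 0, -1, -1, -1, 0, -1, 2, 3, 2, 2, 3, 2, 2, 3, 3, 2, 2, 2, -11],
  [-1, -1, -1, -1, -1, 0, -1, -1, -1, -1, -1, 2, 3, 2, 3, 3, 3, 2, 3, 3, 3, 2, 3, -13],
  [-1, -1, -1, -1, -1, 0, -1, 0, -1, 0, -1, 2, 3, 2, 2, 2, 2, 1, 2, 2, 2, 2, 2, -9],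
  [-1, -1, -1, -1, -1, -1, -1, -1, -1, 0, -1, 2, 3, 3, 3, 3, 2, 2, 3, 3, 3, 2, 2, -12],
  [0, 0, 0, 0, 0, 0, 0, 0, 0, 0, 0, 1, 0, 0, 0, 0, 0, 0, 0, 0, 0, 0, 0, 0],
  [0, 0, 0, 0, 0, 0, 0, 0, 0, 0, 0, 0, 0, 0, 0, 0, 0, 0, 0, 1, 0, 0, 0, 0],
  [0, 0, 0, 0, 0, 0, 0, 0, 0, 0, 0, 0, 0, 0, 0, 0, 1, 0, 0, 0, 0, 0, 0, 0],
  [0, 0, 0, 0, 0, 0, 0, 0, 0, 2, 0, 0, 0, 0, -1, 0, -1, -1, 0, -1, -1, -1, -1, 4],
  [0, 0, 0, 0, 0, 0, 0, 0, 0, 0, 0, 0, 0, 0, 0, 1, 0, 0, 0, 0, 0, 0, 0, 0],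
  [0, 0, 0, 0, 0, 0, 0, 0, 0, 0, 0, 0, 0, 0, 0, 0, 0, 0, 0, 0, 1, 0, 0, 0],
  [0, 0, 0, 0, 0, 0, 0, 0, 0, 0, 0, 0, 0, 0, 0, 0, 0, 0, 0, 0, 0, 1, 0, 0],
  [0, 0, 0, 0, 0, 0, 0, 0, 0, 0, 0, 0, 0, 0, 0, 0, 0, 0, 1, 0, 0, 0, 0, 0],
  [0, 0, 0, 0, 0, 2, 0, 0, 0, 0, 0, 0, 0, -1, -1, 0, 0, -1, -1, 0, -1, -1, 0, 3],
  [-2, -2, -2, -2, -2, -2, -2, -2, -2, -2, -2, 4, 6, 5, 6, 5, 5, 5, 6, 6, 6, 5, 5, -25],
  [0, 0, 0, 0, 0, 0, 0, 0, 0, 0, 0, 0, 0, 0, 1, 0, 0, 0, 0, 0, 0, 0, 0, 0],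
  [0, 0, 0, 0, 0, 0, 0, 0, 0, 0, 0, 0, 1, 0, 0, 0, 0, 0, 0, 0, 0, 0, 0, 0],
  [0, 0, 0, 0, 0, 0, 0, 0, 0, 0, 0, 0, 0, 0, 0, 0, 0, 0, 0, 0, 0, 0, 0, 1]]

noncomputable def X' : List (List ℤ) :=
  [[2, 1, 2, 2, 2, 2, 2, 2, 2, 2, 2, 1, 2, 1, 1, 1, 1, 1, 2, 2, 2, 2, 1, 2],
  [1, 2, 2, 1, 2, 1, 1, 2, 2, 2, 2, 2, 1, 0, 0, 1, 1, 0, 0, 1, 1, 0, 0, 0],
  [2, 2, 2, 2, 2, 1, 2, 2, 2, 1, 2, 1, 2, 1, 1, 2, 2, 1, 2, 2, 1, 1, 1, 2],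
  [2, 2, 1, 2, 2, 2, 2, 2, 2, 2, 2, 2, 1, 0, 1, 0, 1, 0, 1, 1, 0, 1, 0, 0],
  [1, 1, 1, 1, 2, 2, 2, 1, 2, 2, 2, 1, 1, 1, 1, 1, 2, 1, 1, 2, 2, 2, 1, 2],
  [2, 1, 1, 1, 1, 2, 2, 1, 2, 2, 2, 1, 1, 1, 2, 1, 2, 1, 2, 1, 1, 2, 1, 2],
  [2, 2, 2, 1, 1, 2, 2, 2, 1, 1, 2, 1, 2, 1, 2, 2, 1, 1, 2, 1, 1, 1, 1, 2],
  [1, 1, 1, 2, 1, 2, 2, 2, 2, 2, 1, 2, 0, 0, 0, 1, 0, 1, 1, 1, 0, 1, 0, 0],
  [2, 2, 2, 1, 1, 2, 2, 2, 2, 2, 2, 2, 0, 0, 1, 1, 1, 0, 1, 0, 1, 0, 1, 0],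
  [1, 1, 1, 1, 1, 2, 1, 2, 1, 2, 2, 2, 1, 0, 1, 0, 0, 0, 0, 0, 1, 1, 0, 0],
  [1, 2, 2, 1, 2, 2, 2, 2, 2, 2, 2, 1, 1, 2, 2, 2, 1, 1, 1, 2, 2, 1, 1, 2],
  [1, 2, 1, 2, 1, 1, 1, 2, 2, 2, 1, 4, -1, -1, -1, -1, -1, -1, -1, -1, -1, -1, -1, -3],
  [1, 1, 1, 1, 2, 1, 2, 1, 1, 1, 1, -1, 2, 2, 2, 2, 2, 2, 2, 4, 2, 2, 2, 4],
  [2, 1, 1, 0, 2, 1, 1, 0, 1, 1, 2, -1, 2, 2, 2, 2, 4, 2, 2, 2, 2, 2, 2, 4],
  [1, 0, 1, 0, 1, 1, 1, 0, 0, 1, 1, -1, 2, 2, 2, 2, 2, 2, 2, 2, 2, 2, 2, 4],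
  [1, 1, 2, 0, 1, 1, 2, 1, 1, 0, 2, -1, 2, 2, 2, 4, 2, 2, 2, 2, 2, 2, 2, 4],
  [1, 0, 2, 0, 2, 2, 1, 1, 1, 1, 2, -1, 2, 2, 2, 2, 2, 2, 2, 2, 4, 2, 2, 4],
  [1, 0, 1, 1, 1, 2, 2, 0, 1, 1, 2, -1, 2, 2, 2, 2, 2, 2, 2, 2, 2, 4, 2, 4],
  [2, 0, 2, 1, 1, 2, 2, 1, 1, 0, 1, -1, 2, 2, 2, 2, 2, 2, 4, 2, 2, 2, 2, 4],
  [1, 0, 1, 0, 1, 2, 1, 0, 0, 0, 1, -1, 2, 2, 2, 2, 2, 2, 2, 2, 2, 2, 2, 4],
  [1, 0, 1, 0, 1, 1, 1, 0, 0, 0, 1, -1, 2, 2, 2, 2, 2, 2, 2, 2, 2, 2, 2, 4],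
  [2, 1, 1, 0, 1, 2, 2, 1, 0, 1, 2, -1, 2, 2, 4, 2, 2, 2, 2, 2, 2, 2, 2, 4],
  [2, 1, 2, 1, 2, 1, 1, 1, 0, 0, 2, -1, 4, 2, 2, 2, 2, 2, 2, 2, 2, 2, 2, 4],
  [2, 0, 2, 0, 2, 2, 2, 0, 0, 0, 2, -3, 4, 4, 4, 4, 4, 4, 4, 4, 4, 4, 4, 8]]

theorem isoX : chkIso X X' = true :=
  by decide +kernel

theorem x_eq : permHom (mc y5) = elt X X' isoX :=
  permHom_eq_elt ok_y5 isoX (by decide +kernel)

noncomputable def C0 : List (List ℤ) :=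
  [[-2, 0, 0, 2, 0, 0, 0, 0, 0, 0, 0, 0, 0, -1, 1, 0, 1, 0, 0, -1, 0, -1, 0, 1],
  [-1, -1, 0, 1, 0, -1, 0, 0, -1, 0, 0, 1, 0, 1, 1, 1, 1, 0, 1, 0, 1, 0, 0, -2],
  [-1, 0, 1, 1, 1, 0, 0, 0, -1, -1, 0, 0, -1, -1, 1, 0, 1, 0, 0, 0, 0, 0, 0, 0],
  [-1, 0, 1, 1, 1, 1, 0, 0, 0, 0, 0, 0, -1, -2, 0, 0, 0, -1, -1, -1, -1, -1, -1, 4],
  [-1, 0, 0, 1, 1, 1, 0, 0, 0, 0, 0, 0, -1, -1, 0, 0, 0, -1, 0, -1, -1, -1, 0, 3],
  [-1, 1, 1, 1, 1, 1, 1, 1, 1, 0, 0, -1, -2, -3, -1, -2, -1, -1, -2, -3, -2, -2, -1, 9],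
  [-1, 0, 1, 1, 1, 0, 1, 0, 0, 0, 0, 0, -1, -2, 0, -1, 0, -1, -1, -2, -1, -1, -1, 5],
  [0, 1, 1, 2, 2, 1, 2, 1, 0, 1, 1, -2, -4, -3, -3, -2, -2, -3, -3, -4, -3, -3, -3, 14],
  [-1, 0, 1, 0, 1, 0, 0, 0, 0, 0, 0, 0, -1, -1, 0, 0, 0, 0, 0, -1, -1, 0, 0, 2],
  [-1, 0, 0, 1, 1, 0, 0, 1, 0, 0, 0, 0, -1, -1, 0, 0, 0, -1, 0, -2, -1, 0, 0, 3],
  [-1, 0, 0, 1, 1, -1, 0, 0, 0, 0, 0, 0, -1, -1, 1, 0, 0, 0, 1, -1, 0, 0, 0, 1],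
  [-1, 0, 0, 0, 0, -1, 0, 0, -1, 0, 0, 1, 0, 1, 1, 1, 1, 1, 1, 0, 1, 1, 0, -3],
  [-1, 0, 0, 1, 1, 0, 0, -1, 0, 0, 0, 0, 0, -1, 1, 0, 0, 0, 1, 0, 0, -1, 0, 0],
  [-1, 0, 1, 0, 0, 1, 0, 0, 0, 0, 0, 0, 0, -1, 0, -1, 0, 0, 0, 0, -1, -1, 0, 2],
  [-1, 0, 0, 1, 0, 0, 1, 0, 0, 0, 0, 0, 0, -1, 0, -1, 0, 0, 0, -1, 0, -1, 0, 2],
  [0, 1, 1, 1, 1, 0, 1, 0, 0, 0, 0, -1, -2, -2, -1, -2, -1, -1, -1, -2, -1, -1, -2, 7],
  [-1, 0, 0, 1, 0, 0, 0, 0, 1, 0, 0, 0, 0, -1, 0, -1, 0, 0, 0, -1, -1, -1, 0, 3],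
  [0, 2, 1, 2, 1, 2, 1, 1, 1, 1, 0, -2, -3, -4, -3, -3, -2, -3, -3, -4, -3, -3, -3, 15],
  [-1, 1, 1, 1, 1, 1, 1, 0, 1, 0, 0, -1, -1, -3, -1, -2, -1, -1, -2, -2, -2, -2, -1, 8],
  [-1, 0, 0, 0, 1, 1, 1, 0, 0, 0, 0, 0, 0, -1, -1, -1, 0, -1, 0, -1, -1, -1, 0, 3],
  [0, 1, 1, 1, 2, 1, 1, 1, 1, 0, 1, -2, -3, -3, -2, -3, -2, -2, -2, -3, -3, -2, -1, 11],
  [-1, 0, 1, 0, 1, 0, 0, 0, 1, 0, -1, 0, 0, -2, 1, -1, 0, 0, 0, -1, -1, 0, 0, 2],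
  [-1, 0, 1, 1, 0, 0, 0, 0, 0, -1, 0, 0, 0, -1, 1, -1, 1, 0, 0, 0, 0, 0, 0, 0],
  [-1, 1, 1, 1, 1, 1, 1, 0, 1, 0, 0, -1, -1, -3, -1, -3, -1, -1, -1, -2, -2, -2, -1, 8]]

noncomputable def W0 : List (List ℤ) :=
  [[-1, 0, 0, 1, 0, 0, 0, 0, 0, 0, 0, 0, 0, 0, 0, 0, 0, 0, 0, 0, 0, 0, 0, 0],
  [-1, -1, 1, 0, 0, 0, 0, 0, 0, -1, 0, 0, 0, 1, 0, 1, 0, 0, 1, 0, 1, 0, 0, 1],
  [0, 0, 1, 0, 1, 0, 0, 0, -1, -1, 0, -1, 1, 1, 1, 1, 1, 1, 1, 1, 1, 0, 1, 2],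
  [-1, 0, 1, 0, 1, 1, 0, 1, 1, 0, 1, 1, 0, 0, 0, 1, 0, 0, 0, 0, 1, 0, -1, 0],
  [0, 0, 1, 1, 1, 2, 1, 0, 1, 0, 0, 0, 0, 2, 1, 1, 1, 1, 2, 1, 1, 1, 1, 2],
  [0, 0, 1, 0, 0, 1, 1, 1, 0, 0, 0, 0, 0, 0, 1, 1, 0, 1, 1, 0, 1, 0, 1, 1],
  [-1, -1, 0, -1, -1, -1, 0, -1, -1, -1, 0, 0, 0, -1, 0, 0, 0, -1, 0, -1, 0, 0, 0, 0],
  [-1, 0, 0, 0, 0, 0, 1, 0, 0, 0, 0, 0, -1, 0, 0, 1, 0, 0, 0, 0, 0, 0, 0, 0],
  [-1, -1, 1, -1, 0, 0, 0, -1, 0, -1, 0, -1, 0, 1, 0, 2, 1, 1, 1, 0, 1, 1, 1, 2],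
  [0, 0, 1, 1, 0, 1, 1, 1, 1, 0, 1, 1, 0, 0, 0, 1, 0, 0, 1, -1, 0, 1, 0, 0],
  [0, -1, 0, 0, 0, 0, 1, 0, 0, 0, 0, -1, 0, 0, 1, 1, 1, 1, 2, 1, 1, 1, 1, 2],
  [0, 1, 1, 0, 1, 1, 1, 1, 1, 1, 2, 1, 0, 1, 1, 2, 1, 1, 0, 0, 1, 1, 0, 1],
  [0, 0, 0, 1, 1, 0, 0, 0, 0, 0, -1, 0, 0, 0, 0, -1, 0, 0, 1, 1, 0, -1, 0, 0],
  [0, -1, 1, 0, 0, 1, 0, 0, -1, -1, -1, -1, 1, 1, 1, 0, 0, 1, 2, 1, 1, 0, 1, 2],
  [0, -1, 0, 1, -1, 0, 1, 0, -1, 0, -1, 0, 0, -1, 0, -1, -1, 0, 1, 0, 0, 0, 1, 0],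
  [-1, -2, -1, -1, -1, -1, -1, -2, -2, -2, -2, -2, 0, 0, 0, -1, 0, 0, 1, 0, 0, 0, 0, 1],
  [0, -1, 0, 1, 0, 0, 0, -1, 0, -1, -1, -1, 1, 1, 0, 0, 1, 1, 2, 1, 0, 1, 1, 2],
  [0, 0, 0, 1, 0, 1, 0, 0, 0, 0, -1, 0, 0, 0, 0, -1, 0, 0, 1, 0, 0, 0, 0, 0],
  [-1, 0, 0, 0, 0, -1, 0, -1, -1, -1, -1, -1, 1, 0, 0, 0, 0, 0, 0, 1, 0, 0, 1, 1],
  [-1, -1, 0, 0, 0, 0, 0, -1, 0, -1, -1, 0, 0, 0, -1, -1, 0, -1, 1, 0, 0, 0, 0, 0],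
  [1, 0, 1, 1, 1, 1, 1, 0, 0, 0, 0, -1, 1, 1, 1, 0, 1, 1, 2, 1, 1, 1, 2, 2],
  [0, -1, 0, 0, 0, 0, 0, 0, 0, 0, -1, 0, 0, -1, 0, -1, 0, 0, 1, 0, 0, 0, 0, 0],
  [0, 0, 1, 1, 0, 0, 0, 0, 0, -1, 0, 0, 1, 0, 0, -1, 0, -1, 1, 0, 0, 0, 0, 0],
  [0, -1, 0, 1, 0, 0, 0, -1, -1, -1, -2, -1, 1, 0, 0, -2, 0, 0, 2, 1, 0, 0, 1, 1]]

theorem iso0 : chkIso C0 W0 = true :=
  by decide +kernel

theorem rep0 : ∃ g ∈ centralizer ({permHom (mc y5)} : Set Co0), RepBy 256 (lpt 256 P []) g (wp ns [0]) :=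
  rep_cent ctx x_eq iso0 (by decide +kernel)

noncomputable def C1 : List (List ℤ) :=
  [[1, 0, 0, 0, 1, -1, 1, 0, 0, 0, 0, 0, -1, 0, 0, -1, -1, 0, 0, -1, 0, 0, -1, 2],
  [0, 1, 0, 0, 1, -1, 1, 0, 0, 0, 0, 0, -1, -1, 0, -1, -1, 0, 0, -2, 0, 0, -1, 3],
  [1, 0, 0, 0, 1, 0, 1, 0, -1, 0, 0, 0, -1, 0, -1, 0, -1, -1, 0, -1, 0, 0, -1, 2],
  [0, 1, 0, 0, 1, 0, 1, 0, 0, 0, 0, 0, -1, -1, -1, -1, -1, 0, 0, -2, -1, 0, -1, 4],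
  [2, 2, 1, 1, 1, 0, 2, 1, 0, 1, 1, -2, -4, -2, -4, -3, -3, -2, -3, -4, -2, -2, -4, 14],
  [1, 0, 1, 0, 0, 0, 0, 0, -1, 0, 0, 0, -1, 0, 0, 0, 0, 0, 0, 0, 0, 1, -1, 0],
  [1, 1, 0, 0, 1, 0, 0, 0, 0, 0, -1, 0, -1, -1, 0, 0, -1, -1, 0, -1, 0, 1, -1, 2],
  [0, 1, 0, 0, 0, 0, 1, 1, -1, 0, 0, 0, -1, 0, -1, -1, 0, 0, 0, -1, 0, 0, -1, 2],
  [0, 1, 0, 1, 0, -1, 0, 0, -1, 0, 0, 0, -1, 0, 0, 0, 0, 0, 1, -1, 1, 1, -1, 0],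
  [0, 1, 0, 0, 1, -1, 0, 0, -1, 1, 0, 0, -1, 0, 0, 0, -1, 0, 1, -1, 0, 1, -1, 1],
  [1, 0, 0, 0, 0, -1, 1, 0, -1, 0, 0, 0, -1, 1, 0, 0, 0, 0, 0, 0, 1, 1, -1, -1],
  [-1, 1, 1, 1, 1, 0, 1, 1, 0, 1, 0, -1, -2, -2, -1, -2, -1, -1, -1, -3, -2, -1, -2, 8],
  [2, 0, 0, 0, 0, 0, 2, 0, 0, 0, 0, 0, -1, 0, -2, -1, -1, -1, -2, -1, 0, -1, -2, 5],
  [2, 0, 0, 0, 0, 0, 0, 0, 0, 0, 0, 0, -1, 0, -1, 0, -1, -1, -1, -1, 0, 0, -1, 3],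
  [2, 0, 0, 0, 0, 0, 0, 0, 0, 0, 0, 0, -1, 0, 0, 0, -1, -1, -1, 0, 0, 0, -1, 2],
  [2, 0, 0, 0, 0, 0, 0, 0, 0, 0, 0, 0, -1, 0, -1, 0, -1, -1, -1, 0, 0, 0, -1, 2],
  [2, 0, 0, 0, 0, -2, 0, 0, 0, 0, 0, 0, -1, 1, 0, 0, -1, 0, 0, 0, 1, 1, -1, 0],
  [2, 0, 0, 0, 0, 0, 0, 0, 0, 0, 0, 0, -1, 0, -1, 0, -1, 0, -1, 0, 0, 0, -1, 2],
  [2, 0, 0, 0, 0, 0, 0, 0, 0, 0, 0, 0, -1, 0, -1, 0, -1, -1, 0, 0, 0, 0, -1, 2],
  [2, 2, 0, 0, 0, 0, 0, 0, 0, 0, 0, 0, -2, -1, -2, -1, -2, -1, -1, -1, 0, 0, -2, 6],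
  [2, 0, 0, 0, 0, 0, 0, 0, -2, 0, 0, 0, -1, 1, -1, 1, 0, -1, 0, 1, 1, 1, -1, -1],
  [2, 0, 0, 0, 0, 0, 0, 0, 0, 0, 0, 0, -1, 0, -1, 0, -1, -1, -1, 0, 0, 1, -1, 2],
  [2, 0, 0, 0, 2, 0, 0, 0, 0, 0, 0, 0, -2, -1, -1, 0, -2, -2, -1, -1, -1, 0, -1, 5],
  [4, 0, 0, 0, 0, 0, 0, 0, 0, 0, 0, 0, -2, 0, -2, 0, -2, -2, -2, 0, 0, 0, -2, 5]]

noncomputable def W1 : List (List ℤ) :=
  [[2, 0, 0, 1, 1, 1, 1, 1, 0, 1, 0, 1, 0, 0, 1, -1, 0, 1, 1, 0, 0, 0, 0, 0],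
  [0, 0, -1, -1, -1, -1, 0, 0, -1, 0, 0, 1, -1, -2, 0, -1, -1, -1, -1, -2, -1, -1, -1, -2],
  [0, -1, 0, 0, -1, 0, 0, 0, -1, -1, -1, 1, -1, -1, -1, -1, -2, -1, 0, -2, -1, -1, -1, -2],
  [1, 0, 0, 1, 0, 1, 1, 0, 0, 0, 0, 1, 0, 0, 0, 0, 0, 1, 1, -1, -1, 1, 0, 0],
  [1, 0, 0, 0, 0, 0, 0, 0, -1, 0, 0, 0, 0, 0, 0, 0, 0, 1, 0, -1, 0, 0, 0, 0],
  [2, 0, 1, 1, 0, 2, 1, 1, 0, 1, 1, 1, 0, 0, 1, 0, 0, 1, 1, -1, 0, 1, 0, 0],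
  [1, 1, 0, 1, 0, 1, 1, 1, 1, 1, 0, 2, -1, -1, 0, -1, -1, -1, 0, -1, -1, 0, -1, -2],
  [1, 1, 0, 1, 0, 1, 1, 2, 0, 1, 0, 2, -1, -1, 0, -1, -1, 0, 0, -1, -1, -1, -1, -2],
  [0, 0, 0, 1, -1, 0, 0, 0, 0, 0, 0, 1, -1, -1, -1, -1, -1, -1, 0, -2, -1, 0, -1, -2],
  [1, 1, 0, 1, 1, 1, 1, 1, 0, 2, 1, 1, 0, 0, 1, 0, 0, 1, 0, 0, 0, 1, 0, 0],
  [0, 0, -1, 0, -1, 0, 1, 0, 0, 1, 0, 1, -2, -1, 0, -1, -1, -1, -1, -1, -1, 0, -1, -2],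
  [-1, -1, -1, 0, -1, 0, 0, 0, -1, 0, -1, 0, -1, -1, 0, -1, -1, 0, 0, -1, -1, 0, -1, -1],
  [1, 0, 0, 0, 0, 0, 1, 0, 0, 0, 0, 1, 0, 0, 0, 0, 0, 0, 0, 0, 0, 0, 0, 0],
  [1, -1, 0, -1, -1, 0, -1, -1, -1, -1, 0, 0, 0, 0, 0, 0, 0, 0, 0, -2, 0, 0, 0, 0],
  [2, 1, 0, 0, 0, 1, 1, 1, 0, 1, 1, 1, 0, 0, 2, 0, 0, 0, 0, 0, 0, 0, 0, 0],
  [0, 0, -1, 0, -1, -1, -1, 0, 0, 0, -1, 2, -2, -2, -2, -2, -2, -2, -2, -2, -2, -2, -2, -4],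
  [1, 0, 0, 0, 0, -1, 0, 0, 0, 0, 0, 0, 0, 0, 0, 0, 0, 0, 0, 0, 0, 0, 0, 0],
  [2, 0, 0, 1, 1, 1, 0, 1, 0, 1, 0, 1, 0, 0, 0, 0, 0, 2, 0, 0, 0, 0, 0, 0],
  [2, 0, 1, 1, 0, 1, 1, 1, 1, 0, 0, 1, 0, 0, 0, 0, 0, 0, 2, 0, 0, 0, 0, 0],
  [1, 1, 0, 0, 0, 0, 0, 0, 0, 0, 0, 1, 0, 0, 0, 0, 0, 0, 0, 0, 0, 0, 0, 0],
  [1, 0, 0, 0, 0, 0, 0, 0, -1, 0, 0, 0, 0, 0, 0, 0, 0, 0, 0, 0, 0, 0, 0, 0],
  [1, 0, 0, 1, 0, 1, 1, 0, 1, 1, 1, 1, 0, 0, 0, 0, 0, 0, 0, 0, 0, 2, 0, 0],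
  [1, 0, 0, 0, 1, 0, 0, 0, 0, 0, 0, 1, 0, 0, 0, 0, 0, 0, 0, 0, 0, 0, 0, 0],
  [2, 0, 0, 0, 0, 0, 0, 0, 0, 0, 0, 1, 0, 0, 0, 0, 0, 0, 0, 0, 0, 0, 0, 0]]

theorem iso1 : chkIso C1 W1 = true :=
  by decide +kernel

theorem rep1 : ∃ g ∈ centralizer ({permHom (mc y5)} : Set Co0), RepBy 256 (lpt 256 P []) g (wp ns [2]) :=
  rep_cent ctx x_eq iso1 (by decide +kernel)

theorem reps : Reps 256 (lpt 256 P []) (centralizer {permHom (mc y5)}) ns G_ss0 :=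
  Reps.cons rep0 (Reps.cons rep1 (Reps.nil))

theorem inj : ∀ i < 256, ∀ j < 256, lpt 256 P [] i = lpt 256 P [] j → i = j :=
  inj_of_reps ctx reps [0, 1, 2, 5] 7 (by decide +kernel)

noncomputable def FA : List (List ℤ) :=
  [[0, 0, 0, 0, 0, 1, 0, 0, 1, 0, 1, 0, 1, 1, 1, 1, 1, 0, 1, 1, 0, 0, 0, 1],
  [1, 1, 0, 1, 0, 1, 1, 1, 0, 0, 0, 0, 0, 0, 1, 0, 1, 1, 1, 0, 0, 0, 0, 1],
  [0, 0, 0, 1, 0, 1, 1, 0, 1, 0, 0, 0, 0, 0, 1, 1, 1, 0, 1, 1, 1, 1, 0, 1],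
  [1, 0, 1, 1, 0, 1, 1, 0, 0, 0, 1, 0, 0, 0, 1, 1, 1, 0, 0, 1, 0, 1, 0, 0],
  [0, 0, 1, 0, 0, 1, 1, 0, 1, 1, 1, 0, 1, 0, 0, 1, 0, 0, 0, 1, 0, 1, 0, 0],
  [0, 0, 0, 0, 0, 0, 0, 1, 1, 0, 0, 0, 0, 1, 1, 0, 0, 0, 0, 0, 0, 0, 0, 0],
  [0, 1, 0, 1, 0, 0, 0, 1, 0, 1, 0, 0, 1, 0, 0, 0, 1, 0, 1, 0, 0, 0, 1, 0],
  [1, 1, 1, 1, 1, 0, 1, 1, 0, 1, 1, 0, 1, 0, 0, 1, 1, 0, 1, 0, 1, 1, 0, 1],
  [0, 0, 0, 0, 0, 1, 0, 1, 0, 0, 1, 0, 1, 1, 1, 1, 1, 0, 0, 0, 1, 0, 0, 0],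
  [1, 1, 1, 1, 1, 1, 1, 1, 1, 1, 0, 0, 0, 0, 0, 1, 1, 0, 1, 1, 0, 1, 0, 0],
  [1, 1, 1, 1, 1, 1, 1, 0, 0, 0, 0, 0, 0, 1, 0, 0, 1, 0, 0, 0, 0, 1, 0, 0],
  [0, 0, 0, 0, 0, 0, 0, 0, 0, 0, 0, 0, 0, 0, 0, 0, 0, 0, 0, 0, 0, 0, 0, 0],
  [0, 0, 0, 0, 0, 0, 0, 0, 0, 0, 0, 0, 0, 1, 0, 1, 1, 0, 1, 0, 1, 1, 0, 0],
  [0, 0, 0, 0, 0, 0, 0, 0, 0, 0, 0, 0, 0, 1, 0, 1, 0, 1, 0, 0, 0, 1, 1, 1],
  [0, 0, 0, 0, 0, 0, 0, 0, 0, 0, 0, 0, 0, 0, 1, 0, 1, 0, 0, 1, 1, 1, 1, 0],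
  [0, 0, 0, 0, 0, 0, 0, 0, 0, 0, 0, 0, 0, 0, 0, 0, 0, 0, 0, 0, 0, 0, 0, 0],
  [0, 0, 0, 0, 0, 0, 0, 0, 0, 0, 0, 0, 1, 0, 1, 1, 1, 0, 0, 0, 0, 1, 0, 1],
  [0, 0, 0, 0, 0, 0, 0, 0, 0, 0, 0, 0, 0, 0, 1, 0, 1, 1, 0, 1, 1, 0, 1, 0],
  [0, 0, 0, 0, 0, 0, 0, 0, 0, 0, 0, 0, 0, 0, 0, 0, 0, 0, 0, 0, 0, 0, 0, 0],
  [0, 0, 0, 0, 0, 0, 0, 0, 0, 0, 0, 0, 0, 1, 1, 0, 0, 1, 1, 0, 1, 1, 1, 1],
  [0, 0, 0, 0, 0, 0, 0, 0, 0, 0, 0, 0, 0, 0, 0, 1, 1, 1, 0, 0, 0, 1, 1, 1],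
  [0, 0, 0, 0, 0, 0, 0, 0, 0, 0, 0, 0, 1, 0, 0, 1, 0, 1, 1, 1, 1, 0, 0, 0],
  [0, 0, 0, 0, 0, 0, 0, 0, 0, 0, 0, 0, 1, 1, 1, 0, 0, 1, 1, 0, 1, 1, 0, 1],
  [0, 0, 0, 0, 0, 0, 0, 0, 0, 0, 0, 0, 0, 0, 0, 0, 0, 0, 0, 0, 0, 0, 0, 0]]

noncomputable def FB : List (List ℤ) :=
  [[0, 1, 0, 0, 1, 0, 0, 0],
  [0, 1, 1, 1, 1, 0, 0, 1],
  [0, 0, 0, 1, 1, 1, 0, 0],
  [0, 0, 0, 0, 1, 0, 1, 0],
  [0, 1, 1, 1, 1, 1, 0, 1],
  [0, 1, 0, 0, 0, 1, 0, 0],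
  [0, 0, 1, 0, 1, 1, 0, 0],
  [0, 1, 0, 0, 0, 0, 0, 0],
  [0, 1, 1, 1, 0, 0, 0, 0],
  [0, 0, 1, 0, 0, 0, 0, 1],
  [0, 0, 1, 1, 0, 1, 1, 1],
  [1, 0, 0, 0, 0, 0, 0, 0],
  [0, 0, 1, 0, 0, 0, 1, 1],
  [0, 0, 0, 0, 0, 0, 1, 0],
  [0, 0, 1, 1, 0, 0, 1, 0],
  [0, 0, 1, 0, 0, 0, 0, 0],
  [0, 0, 0, 0, 0, 0, 1, 0],
  [0, 0, 1, 1, 0, 0, 1, 0],
  [0, 0, 0, 1, 0, 0, 0, 0],
  [0, 0, 1, 0, 0, 0, 1, 1],
  [0, 0, 0, 0, 0, 0, 1, 0],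
  [0, 0, 1, 1, 0, 0, 1, 0],
  [0, 0, 1, 0, 0, 0, 1, 1],
  [0, 0, 0, 0, 0, 0, 0, 1]]

noncomputable def FF : List (List ℤ) :=
  [[0, 0, 0, 0, 0, 0, 0, 0, 0, 0, 0, 1, 0, 0, 0, 0, 0, 0, 0, 0, 0, 0, 0, 0],
  [1, 1, 1, 1, 1, 1, 1, 0, 1, 0, 0, 0, 0, 1, 0, 0, 0, 0, 0, 0, 0, 0, 0, 0],
  [0, 0, 0, 0, 0, 0, 0, 0, 0, 0, 0, 0, 0, 0, 0, 1, 0, 0, 0, 0, 0, 0, 0, 0],
  [0, 0, 0, 0, 0, 0, 0, 0, 0, 0, 0, 0, 0, 0, 0, 0, 0, 0, 1, 0, 0, 0, 0, 0],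
  [1, 0, 0, 0, 0, 0, 0, 1, 0, 1, 0, 0, 0, 0, 0, 0, 0, 0, 0, 1, 1, 0, 0, 0],
  [1, 1, 1, 1, 1, 0, 1, 1, 0, 1, 0, 0, 0, 0, 1, 0, 1, 1, 0, 1, 0, 1, 0, 0],
  [0, 0, 0, 0, 0, 0, 0, 0, 0, 0, 0, 0, 1, 0, 1, 0, 1, 1, 0, 0, 0, 0, 1, 0],
  [0, 0, 0, 0, 0, 0, 0, 0, 0, 0, 0, 0, 0, 0, 0, 0, 0, 0, 0, 0, 0, 0, 0, 1]]

theorem hF0 : (Fx (permHom (mc y5))).Finite ∧ (Fx (permHom (mc y5))).ncard ≤ 256 :=
  x_eq ▸ Fx_le (n := 8) (A := FA) (B := FB) (F := FF) isoX (by decide +kernel)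

theorem hx : RepBy 256 (lpt 256 P []) (permHom (mc y5)) 1 :=
  rep_self ctx x_eq (by decide +kernel)

theorem hF : Fx (permHom (mc y5)) = lpt 256 P [] '' Set.Iio 256 ∧ (Fx (permHom (mc y5))).ncard = 256 :=
  Fx_eq inj hx hF0

noncomputable def D4 : ℕ :=
  nat_lit 0x20051489904245200c1352c02904005acc2f94004a08cf01512150624256084

theorem hT : ∀ i < 256, (lpt 256 P [] i ∈ T4 ↔ D4.testBit i = true) :=
  fun _ => T4_iff ctx reps (a := [(2, [1, 1, -1, 1, 1, 1, 1, 2, 1, 2, 0, -2, -2, -1, -4, -2, -2, -4, -2, -4, -2, -2, -2, 12])])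
    (b := [(0, [0, 0, 0, 0, 0, 0, 0, 0, 0, 0, 0, 0, 0, 0, 0, 0, 0, 0, 0, 0, 0, 0, 0, 0]), (1, [0, 0, 0, 0, 0, 0, 0, 0, 0, 0, 0, 1, 0, 0, 0, 0, 0, 0, 0, 0, 0, 0, 0, 0]), (5, [0, 0, 0, 0, 0, 0, 0, 0, 0, 0, 0, 1, 0, 0, 0, 1, 0, 0, 0, 0, 0, 0, 0, 0])]) (r := 7) (by decide +kernel)

theorem nT : (Fx (permHom (mc y5)) ∩ T4).ncard = 75 :=
  ncard_Fx_T4 ctx inj hF.1 hT (by decide +kernel)

theorem nI : {o : Finset GolayPt | o ∈ GC ∧ mc y5 • o = o}.ncard = 16 :=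
  ncard_inv_code ok_y5 (by decide +kernel)

theorem ho : orderOf (permHom (mc y5)) = 5 :=
  (orderOf_permHom _).trans ord_y5

theorem hC : Nat.card (centralizer ({permHom (mc y5)} : Set Co0)) ≤ 2 * orderOf (permHom (mc y5)) * 7200 :=
  ho ▸ card_cent_le (frOrb_le hF0.1 nT) nI cent_y5

theorem model : Nat.card (gen ns G_ss0) = 7200 ∧ ∃ ρ : centralizer ({permHom (mc y5)} : Set Co0) →* gen ns G_ss0,
    Function.Surjective ρ ∧ (∀ g, ρ g = 1 ↔ (g : Co0) ∈ zpowers (negOne * permHom (mc y5))) ∧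
    ∀ g : centralizer ({permHom (mc y5)} : Set Co0), RepBy 256 (lpt 256 P []) (g : Co0) (ρ g : Equiv.Perm ℕ) :=
  exists_model (ho ▸ by decide) reps inj hx G_lb hC

theorem G_card : Nat.card (gen ns G_ss0) = 7200 :=
  model.1

theorem G_eq : gen ns G_ss0 = cgrp ns G_C0 :=
  eq_of_le_of_lb ctx G_le0 G_card G_lb0

theorem G_card0 : Nat.card (cgrp ns G_C0) = 7200 :=
  G_eq ▸ G_card

theorem G_st0 : IsStab 256 (gen ns G_l0.ws) (cgrp ns G_C1) G_l0.b G_D0 :=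
  isStab_known ctx G_card0 G_lb1 G_lv0 (by decide +kernel)

theorem G_card1 : Nat.card (cgrp ns G_C1) = 96 :=
  card_step ctx G_st0 G_card0 (by decide +kernel)

theorem G_st1 : IsStab 256 (gen ns G_l1.ws) (cgrp ns G_C2) G_l1.b G_D1 :=
  isStab_known ctx G_card1 G_lb2 G_lv1 (by decide +kernel)

theorem G_card2 : Nat.card (cgrp ns G_C2) = 4 :=
  card_step ctx G_st1 G_card1 (by decide +kernel)

theorem G_st2 : IsStab 256 (gen ns G_l2.ws) (cgrp ns G_C3) G_l2.b G_D2 :=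
  isStab_known ctx G_card2 G_lb3 G_lv2 (by decide +kernel)

theorem G_ver3 : Ver ns G_C3 1 :=
  ver_nil _

theorem G_ver2 : Ver ns G_C2 4 :=
  G_ver3.cons ctx G_st2 (by decide +kernel)

theorem G_ver1 : Ver ns G_C1 96 :=
  G_ver2.cons ctx G_st1 (by decide +kernel)

theorem G_ver0 : Ver ns G_C0 7200 :=
  G_ver1.cons ctx G_st0 (by decide +kernel)

theorem faithful : FaithfulOn 256 (gen ns G_l0.ws) G_D0 :=
  (G_st0.faithfulOn (by decide +kernel) (G_st1.faithfulOn (by decide +kernel) (G_st2.faithfulOn (by decide +kernel) (cgrp_nil ns ▸ faithfulOn_bot _ _))))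

theorem o2 : ∀ T : Subgroup (gen ns G_ss0), T.Normal → IsPGroup 2 T → T = ⊥ :=
  by
  have : Finite (cgrp ns G_C0) := finite_gen ctx.ok _
  rw [G_eq]
  exact two_eq_bot G_st0 faithful (by rw [← pcN_eq ctx.le]; decide +kernel)

theorem cdata0 : ∃ ρ : centralizer ({permHom (mc y5)} : Set Co0) →* gen ns G_ss0, CData (permHom (mc y5)) 256 ρ :=
  model.2.imp fun _ h => cdata_of (ho ▸ by decide) inj hF h o2

noncomputable def ans_0 : Net :=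
 (Net.cons (nat_lit 8) 51
 (Net.cons (nat_lit 4) 268
 (Net.cons (nat_lit 2) 1
 (Net.cons (nat_lit 1) 4353
 (Net.cons (nat_lit 8) 48
 Net.nil)))))

noncomputable def ans_1 : Net :=
 (Net.cons (nat_lit 8) 192
 (Net.cons (nat_lit 4) 3082
 (Net.cons (nat_lit 2) 256
 (Net.cons (nat_lit 1) 1040
 (Net.cons (nat_lit 2) 32
 (Net.cons (nat_lit 4) 3082
 (Net.cons (nat_lit 8) 192
 Net.nil)))))))

noncomputable def ans_2 : Net :=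
 (Net.cons (nat_lit 8) 64
 (Net.cons (nat_lit 4) 1038
 (Net.cons (nat_lit 2) 306
 (Net.cons (nat_lit 1) 64
 (Net.cons (nat_lit 2) 32
 (Net.cons (nat_lit 4) 1038
 (Net.cons (nat_lit 8) 64
 Net.nil)))))))

noncomputable def ans_3 : Net :=
 (Net.cons (nat_lit 8) 128
 (Net.cons (nat_lit 4) 2048
 (Net.cons (nat_lit 2) 514
 (Net.cons (nat_lit 1) 260
 (Net.cons (nat_lit 4) 2048
 (Net.cons (nat_lit 8) 128
 Net.nil))))))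

noncomputable def ans_4 : Net :=
 (Net.cons (nat_lit 8) 96
 (Net.cons (nat_lit 4) 524
 (Net.cons (nat_lit 2) 8208
 (Net.cons (nat_lit 1) 16704
 (Net.cons (nat_lit 2) 8192
 (Net.cons (nat_lit 4) 524
 (Net.cons (nat_lit 8) 96
 Net.nil)))))))

noncomputable def ans_5 : Net :=
 (Net.cons (nat_lit 8) 224
 (Net.cons (nat_lit 4) 3072
 (Net.cons (nat_lit 2) 512
 (Net.cons (nat_lit 1) 1280
 (Net.cons (nat_lit 4) 3584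
 (Net.cons (nat_lit 8) 224
 Net.nil))))))

noncomputable def ans_6 : Net :=
 (Net.cons (nat_lit 8) 192
 (Net.cons (nat_lit 4) 3084
 (Net.cons (nat_lit 2) 816
 (Net.cons (nat_lit 1) 16
 (Net.cons (nat_lit 2) 32
 (Net.cons (nat_lit 4) 3084
 (Net.cons (nat_lit 8) 192
 Net.nil)))))))

noncomputable def ans_7 : Net :=
 (Net.cons (nat_lit 8) 64
 (Net.cons (nat_lit 4) 1036
 (Net.cons (nat_lit 2) 816
 (Net.cons (nat_lit 1) 1040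
 (Net.cons (nat_lit 2) 544
 (Net.cons (nat_lit 4) 1036
 (Net.cons (nat_lit 8) 64
 Net.nil)))))))

noncomputable def ans_8 : Net :=
 (Net.cons (nat_lit 8) 128
 (Net.cons (nat_lit 4) 2048
 (Net.cons (nat_lit 2) 512
 (Net.cons (nat_lit 1) 256
 (Net.cons (nat_lit 4) 2048
 (Net.cons (nat_lit 8) 128
 Net.nil))))))

noncomputable def ans_9 : Net :=
 (Net.cons (nat_lit 8) 192
 (Net.cons (nat_lit 4) 3072
 (Net.cons (nat_lit 1) 1024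
 (Net.cons (nat_lit 2) 512
 (Net.cons (nat_lit 4) 3072
 (Net.cons (nat_lit 8) 192
 Net.nil))))))

noncomputable def ans : List Net := [ans_0, ans_1, ans_2, ans_3, ans_4, ans_5, ans_6, ans_7, ans_8, ans_9]

theorem actx : Ctx 16 4 ans := ctx_of (by decide +kernel)

noncomputable def A_C6 : List Lvl :=
  []

noncomputable def A_ss5 : List (List ℕ) :=
  [[16]]

noncomputable def A_D5 : ℕ :=
  896

noncomputable def A_l5 : Lvl :=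
  ⟨7, [[16]],
  tabA [(9, 1792), (8, 1793)], 1⟩

noncomputable def A_C5 : List Lvl :=
  A_l5 :: A_C6

noncomputable def A_ss4 : List (List ℕ) :=
  [[16], [18]]

noncomputable def A_D4 : ℕ :=
  960

noncomputable def A_l4 : Lvl :=
  ⟨6, [[18], [16]],
  tabA [(7, 1536), (9, 1537), (8, 1795)], 2⟩

noncomputable def A_C4 : List Lvl :=
  A_l4 :: A_C5

noncomputable def A_ss3 : List (List ℕ) :=
  [[12], [14]]

noncomputable def A_D3 : ℕ :=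
  28

noncomputable def A_l3 : Lvl :=
  ⟨2, [[12], [14], [18], [16]],
  tabA [(4, 512), (3, 513)], 1⟩

noncomputable def A_C3 : List Lvl :=
  A_l3 :: A_C4

noncomputable def A_ss2 : List (List ℕ) :=
  [[8], [10]]

noncomputable def A_D2 : ℕ :=
  992

noncomputable def A_l2 : Lvl :=
  ⟨5, [[8], [10], [12], [14], [18], [16]],
  tabA [(8, 1280), (9, 1283), (7, 2050), (6, 2052)], 2⟩

noncomputable def A_C2 : List Lvl :=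
  A_l2 :: A_C3

noncomputable def A_ss1 : List (List ℕ) :=
  [[4], [6]]

noncomputable def A_D1 : ℕ :=
  30

noncomputable def A_l1 : Lvl :=
  ⟨1, [[4], [6], [8], [10], [12], [14], [18], [16]],
  tabA [(4, 256), (2, 257), (3, 258)], 1⟩

noncomputable def A_C1 : List Lvl :=
  A_l1 :: A_C2

noncomputable def A_ss0 : List (List ℕ) :=
  [[0], [2]]

noncomputable def A_D0 : ℕ :=
  1023

noncomputable def A_l0 : Lvl :=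
  ⟨0, [[0], [2], [4], [6], [8], [10], [12], [14], [18], [16]],
  tabA [(9, 0), (5, 1), (4, 2304), (8, 2310), (7, 2311), (6, 2312), (1, 1026), (3, 1027), (2, 1028)], 3⟩

noncomputable def A_C0 : List Lvl :=
  A_l0 :: A_C1

theorem A_lb6 : 1 ≤ Nat.card (cgrp ans A_C6) :=
  lb_nil _

theorem A_le5 : gen ans A_l5.ws ≤ gen ans A_ss5 :=
  gen_le_step actx (tgt := [])
  (es := []) (le_refl (gen _ [])) (by decide +kernel)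

theorem A_lv5 : chkLvl 16 ans A_l5 A_C6 A_D5 2 = true :=
  by decide +kernel

theorem A_lb5 : 3 ≤ Nat.card (cgrp ans A_C5) :=
  lb_step actx A_lv5 A_lb6 (by decide +kernel)

theorem A_le4 : gen ans A_l4.ws ≤ gen ans A_ss4 :=
  gen_le_step actx (tgt := [[16]])
  (es := [([16], [3, 3, 3, 0])]) A_le5 (by decide +kernel)

theorem A_lv4 : chkLvl 16 ans A_l4 A_C5 A_D4 2 = true :=
  by decide +kernel

theorem A_lb4 : 12 ≤ Nat.card (cgrp ans A_C4) :=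
  lb_step actx A_lv4 A_lb5 (by decide +kernel)

theorem A_le3 : gen ans A_l3.ws ≤ gen ans A_ss3 :=
  gen_le_step actx (tgt := [[16], [18]])
  (es := [([16], [0, 3]), ([18], [2, 2, 2, 4, 2, 2])]) A_le4 (by decide +kernel)

theorem A_lv3 : chkLvl 16 ans A_l3 A_C4 A_D3 1 = true :=
  by decide +kernel

theorem A_lb3 : 36 ≤ Nat.card (cgrp ans A_C3) :=
  lb_step actx A_lv3 A_lb4 (by decide +kernel)

theorem A_le2 : gen ans A_l2.ws ≤ gen ans A_ss2 :=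
  gen_le_step actx (tgt := [[12], [14]])
  (es := [([12], [1, 3, 0, 2, 1]), ([14], [4, 4, 3, 5])]) A_le3 (by decide +kernel)

theorem A_lv2 : chkLvl 16 ans A_l2 A_C3 A_D2 1 = true :=
  by decide +kernel

theorem A_lb2 : 180 ≤ Nat.card (cgrp ans A_C2) :=
  lb_step actx A_lv2 A_lb3 (by decide +kernel)

theorem A_le1 : gen ans A_l1.ws ≤ gen ans A_ss1 :=
  gen_le_step actx (tgt := [[8], [10]])
  (es := [([8], [3, 1, 2]), ([10], [2, 2, 4, 4, 3, 5])]) A_le2 (by decide +kernel)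

theorem A_lv1 : chkLvl 16 ans A_l1 A_C2 A_D1 1 = true :=
  by decide +kernel

theorem A_lb1 : 720 ≤ Nat.card (cgrp ans A_C1) :=
  lb_step actx A_lv1 A_lb2 (by decide +kernel)

theorem A_le0 : gen ans A_l0.ws ≤ gen ans A_ss0 :=
  gen_le_step actx (tgt := [[4], [6]])
  (es := [([4], [0, 3, 0, 0, 0, 3]), ([6], [3, 4, 3, 3, 3])]) A_le1 (by decide +kernel)

theorem A_lv0 : chkLvl 16 ans A_l0 A_C1 A_D0 2 = true :=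
  by decide +kernel

theorem A_lb0 : 7200 ≤ Nat.card (cgrp ans A_C0) :=
  lb_step actx A_lv0 A_lb1 (by decide +kernel)

theorem A_lb : 7200 ≤ Nat.card (gen ans A_ss0) :=
  lb_of_le actx A_le0 A_lb0

noncomputable def Ms : ℕ → ℕ :=
  getL 0 [nat_lit 0xa000a00000a000a00500050000050004,
 nat_lit 0x18000042008124000000000000421800000000000000000024000080,
 nat_lit 0x14000000410000010040000400100000140000004100000100400004000,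
 nat_lit 0x400880040000000001200210000004800000000008401002000000002000,
 nat_lit 0x200100001002000004000080080000408004000040080000010000200200000,
 nat_lit 0x8400840048004801002100220012000,
 nat_lit 0x81002400008100240000000024008100000000000000000000240080,
 nat_lit 0x14010040000000020080280000080020000000008200410000000004000,
 nat_lit 0x200000808000002004010000010400000802000002080000100000404000000,
 nat_lit 0x500000000050000005000000000500005000000000500000050000000004]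

theorem eqv : Nonempty (gen ns G_ss0 ≃* gen ans A_ss0) :=
  by
  have := finite_gen ctx.ok G_ss0
  obtain ⟨e, -⟩ := exists_equiv_masks' ctx actx (K := gen ns G_ss0) (us := G_ss0) (ws' := A_ss0) le_rfl (n := 10) (M := Ms)
    [0] 5 (by decide +kernel) (G_card.trans_le A_lb)
  exact ⟨e⟩

theorem trep0 : ∃ g ∈ alternatingFiveWreathTwo, RepBy 10 pt55 g (wp ans [0]) :=
  rep_small actx (Equiv.Perm.sumCongr (⟨![0, 2, 3, 1, 4], ![0, 3, 1, 2, 4], by decide, by decide⟩ : Equiv.Perm (Fin 5))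
    (⟨![4, 1, 3, 2, 0], ![4, 1, 3, 2, 0], by decide, by decide⟩ : Equiv.Perm (Fin 5)) * wrSwap)
    (sumCongr_swap_mem_wr (by decide +kernel) (by decide +kernel)) [9, 6, 8, 7, 5, 0, 2, 3, 1, 4] (by decide +kernel) (by decide +kernel)

theorem trep1 : ∃ g ∈ alternatingFiveWreathTwo, RepBy 10 pt55 g (wp ans [2]) :=
  rep_small actx (Equiv.Perm.sumCongr (⟨![0, 3, 2, 4, 1], ![0, 4, 2, 1, 3], by decide, by decide⟩ : Equiv.Perm (Fin 5))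
    (⟨![0, 2, 3, 1, 4], ![0, 3, 1, 2, 4], by decide, by decide⟩ : Equiv.Perm (Fin 5)))
    (sumCongr_mem_wr (by decide +kernel) (by decide +kernel)) [0, 3, 2, 4, 1, 5, 7, 8, 6, 9] (by decide +kernel) (by decide +kernel)

theorem treps : Reps 10 pt55 alternatingFiveWreathTwo ans A_ss0 :=
  Reps.cons trep0 (Reps.cons trep1 (Reps.nil))

theorem cdata : ∃ ρ : centralizer ({permHom (mc y5)} : Set Co0) →* alternatingFiveWreathTwo, CData (permHom (mc y5)) 256 ρ :=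
  by
  obtain ⟨ρ, h⟩ := cdata0
  obtain ⟨e⟩ := eqv
  obtain ⟨e', -⟩ := treps.exists_equiv (Subgroup.subtype _) pt55_inj (by simp) ((card_wr_le).trans A_lb)
  exact ⟨_, h.of_equiv (e.trans e'.symm)⟩

end Cfsg.Agent.Mont.C5
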