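import Mathlib
import Cfsg.Agent.Mont.Seven
import Cfsg.Agent.Mont.Tgt
import Cfsg.Agent.He5.Main

/-!
# The centralizer of a subgroup of order 7 in a group of Monster type is the Held group
-/

set_option autoImplicit false

namespace Cfsg.Agent.Mont

open Subgroup Cfsg Cfsg.Spor Cfsg.Agent.TT Cfsg.Agent.Spor Cfsg.Agent.Spor.Leech Cfsg.Agent.LES
  Cfsg.Agent.LES.Co Cfsg.Agent.Spor.M24C Cfsg.Agent.Comp
open scoped Pointwise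

variable {G H : Type*} [Group G] [Group H]

/-- No conjugate of `y` outside `⟨y, s⟩` lies in both `O₂(C(y))` and `O₂(C(s))`. -/
def Sep (y : H) : Prop := ∀ c a : H, c * y * c⁻¹ ∈ O2C y → c * y * c⁻¹ ≠ y → a ∈ O2C y →
  IsConj y a → c * a = a * c → a = y ∨ a = c * y * c⁻¹ ∨ a = c * y * c⁻¹ * y

section

open He5

variable {z : G} {φ : ℕ → G}

theorem la_mem (h : Cod z φ) : φ la ∈ O2C z := by
  let D : Subgroup G :=
    { carrier := {a | a * z = z * a ∧ ∀ c, c * z = z * c → c * a * c⁻¹ ∈ h.T}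
      one_mem' := ⟨by simp, fun c _ => by simp [one_mem]⟩
      mul_mem' := fun ha hb => ⟨comm_mul_left ha.1 hb.1, fun c hc => by
        rw [← conj_mul]; exact mul_mem (ha.2 c hc) (hb.2 c hc)⟩
      inv_mem' := fun ha => ⟨comm_inv_left ha.1, fun c hc => by
        rw [← conj_inv]; exact inv_mem (ha.2 c hc)⟩ }
  refine le_O2C (D := D) (h.T_p.to_le fun a ha => by simpa using ha.2 1 (by simp))
    (fun a ha => ha.1) (fun c hc a ha => ⟨comm_mul_left (comm_mul_left hc ha.1) (comm_inv_left hc),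
      fun c' hc' => by simpa [mul_assoc] using ha.2 _ (comm_mul_left hc' hc)⟩)
    ⟨h.comm vL.1, fun c hc => ?_⟩
  obtain ⟨y, hy, rfl⟩ := h.surj c hc
  rw [← h.map_iv hy, ← h.map_mu hy vL.1, ← h.map_mu (hy.mu vL.1) hy.iv,
    h.mem_T ((hy.mu vL.1).mu hy.iv)]
  exact allH_spec (p := fun y => isT (mu (mu y la) (iv y))) (by decide +kernel) hy

theorem not_L (h : Cod z φ) (hP : Sep z) (hD : IsConj z (φ lh)) {q : G} (hq : CA φ q qL) :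
    False := by
  have v7 : V lh := vL.2.2.2.2.2.2.2.1
  have h1 : q * z * q⁻¹ = φ lh := h.z_eq ▸ (hq 9 (by decide)).2
  have h2 : q * φ la * q⁻¹ = φ la := (hq 0 (by decide)).2
  have h3 : φ 16847105 * φ la * (φ 16847105)⁻¹ = φ lh :=
    h.conj_of vL.1 (V_of_vB (by decide +kernel)) v7 (by decide +kernel)
  have h4 := hP q (φ la) (by
      rw [h1, ← h3]; exact conj_mem_O2C (la_mem h) (h.comm (V_of_vB (by decide +kernel))))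
    (fun e => absurd (h.inj v7 V_zc (h1.symm.trans (e.trans h.z_eq.symm))) (by decide))
    (la_mem h) (hD.trans (isConj_iff.2 ⟨_, h3⟩).symm) (comm_of_conj_eq h2)
  rw [h1, ← h.z_eq, ← h.map_mu v7 V_zc] at h4
  rcases h4 with e | e | e
  · exact absurd (h.inj vL.1 V_zc e) (by decide)
  · exact absurd (h.inj vL.1 v7 e) (by decide)
  · exact absurd (h.inj vL.1 (v7.mu V_zc) e) (by decide +kernel)

theorem isoHe_of_sep [Finite G] (h : Cod z φ) (hP : Sep z) {u : G} (hD : IsConj z u)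
    (hu : Commute u z) (hne : u ≠ z) : IsoHe G := by
  obtain ⟨φ, h, hD⟩ : ∃ φ, Cod z φ ∧ IsConj z (φ lh) := by
    rcases h.fusion hD hu hne with e | e
    · exact ⟨φ, h, e⟩
    · obtain ⟨φ', h', hd⟩ := h.dual
      exact ⟨φ', h', hd.h ▸ e⟩
  obtain ⟨q, hq, q2, q3⟩ := h.getq hD
  have hq := hq.resolve_left (not_L h hP hD)
  obtain ⟨φ', h', hd⟩ := h.dual
  have hi := hd.h ▸ h.i_of_S hq
  obtain ⟨p, hp, p2, p3⟩ := h'.getq hi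
  obtain ⟨p', a1, a2⟩ := h.sat_SS (hd.pS (hp.resolve_left (not_L h' hP hi))) hq p2 q2
    (hd.d ▸ p3) q3
  let f : G ≃* Shrink.{0} G := Shrink.mulEquiv.symm
  obtain ⟨e⟩ := iso_SS (a2.map f.toMonoidHom) (by
    rw [← BN.map_gen, h.top_SS a1 hq, map_top_of_surjective _ f.surjective])
    fun e => h.z_ne (h.z_eq.symm.trans (f.map_eq_one_iff.1 e))
  exact ⟨f.trans e⟩

end

/-- Vectors in the fixed classes of type 4 and their images under a sign change. -/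
noncomputable def sepL : List (ℕ × List ℤ × List ℤ) :=
  [(6, [0, 0, 0, 0, 0, 0, 0, 1, 0, 1, 1, 0, 0, 1, 0, 0, 1, 1, 1, 1, 1, 0, 0, 0],
    [0, 0, 0, 0, 0, 0, 0, 1, 0, 1, 1, 0, -2, -1, -3, -2, -3, 1, 1, -3, 1, 0, -1, 9]),
   (9, [0, 0, 0, 0, 0, 0, 0, 0, 0, 0, 0, 1, 1, 1, 1, 1, 0, 0, 1, 0, 0, 1, 0, 0],
    [0, -1, 0, 0, 0, 0, 0, 0, 0, 0, 0, 1, -1, -1, -1, -1, 0, 0, 1, 0, 0, 1, 0, 4]),
   (10, [1, 0, 0, 0, 0, 0, 1, 0, 0, 0, 0, 0, 0, 1, 1, 1, 1, 1, 1, 0, 0, 1, 0, 0],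
    [1, 0, 0, 0, 0, 0, 1, 0, 0, 0, 0, 0, -1, -1, -3, -2, -2, 1, 1, -1, 0, 1, -2, 8]),
   (12, [1, 0, 0, 0, 0, 0, 1, 1, 0, 1, 1, 0, 0, 0, 1, 1, 0, 0, 0, 1, 1, 1, 0, 0],
    [1, 0, 0, 0, 0, 0, 1, 1, 0, 1, 1, 0, -3, 0, -6, -4, -3, 0, 0, -4, 1, 1, -3, 13]),
   (16, [1, 0, 0, 0, 0, 0, 1, 0, 0, 0, 0, 0, 0, 0, 1, 0, 0, 0, 1, 0, 0, 0, 1, 0],
    [1, 0, 0, 0, 0, 0, 1, 0, 0, 0, 0, 0, -1, 0, -3, -1, -1, 0, 1, -1, 0, 0, -3, 6]),
   (25, [1, 0, 0, 0, 0, 0, 1, 0, 0, 0, 0, 1, 1, 1, 0, 1, 0, 0, 0, 0, 0, 1, 1, 0],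
    [1, -1, 0, 0, 0, 0, 1, 0, 0, 0, 0, 1, -2, -1, -2, -2, -1, 0, 0, -1, 0, 1, -3, 8]),
   (38, [0, 0, 0, 0, 0, 0, 0, 1, 0, 1, 1, 0, 0, 1, 0, 0, 1, 1, 1, 1, 1, 0, 0, 1],
    [0, 0, 0, 0, 0, 0, 0, 1, 0, 1, 1, 0, -2, -1, -3, -2, -3, 1, 1, -3, 1, 0, -1, 10]),
   (39, [0, 0, 0, 0, 0, 0, 0, 1, 0, 1, 1, 1, 0, 1, 0, 0, 1, 1, 1, 1, 1, 0, 0, 1],
    [0, -1, 0, 0, 0, 0, 0, 1, 0, 1, 1, 1, -2, -1, -3, -2, -3, 1, 1, -3, 1, 0, -1, 10]),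
   (42, [1, 0, 0, 0, 0, 0, 1, 0, 0, 0, 0, 0, 0, 1, 1, 1, 1, 1, 1, 0, 0, 1, 0, 1],
    [1, 0, 0, 0, 0, 0, 1, 0, 0, 0, 0, 0, -1, -1, -3, -2, -2, 1, 1, -1, 0, 1, -2, 9]),
   (44, [1, 0, 0, 0, 0, 0, 1, 1, 0, 1, 1, 0, 0, 0, 1, 1, 0, 0, 0, 1, 1, 1, 0, 1],
    [1, 0, 0, 0, 0, 0, 1, 1, 0, 1, 1, 0, -3, 0, -6, -4, -3, 0, 0, -4, 1, 1, -3, 14]),
   (46, [0, 0, 0, 0, 0, 0, 0, 1, 0, 1, 1, 0, 1, 0, 1, 1, 1, 1, 0, 1, 1, 1, 0, 1],
    [0, 0, 0, 0, 0, 0, 0, 1, 0, 1, 1, 0, -3, 0, -4, -3, -3, 1, 0, -3, 1, 1, -1, 12]),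
   (55, [1, 0, 0, 0, 0, 0, 1, 1, 0, 1, 1, 1, 0, 1, 1, 0, 1, 1, 0, 1, 1, 0, 1, 1],
    [1, -1, 0, 0, 0, 0, 1, 1, 0, 1, 1, 1, -3, -1, -6, -3, -4, 1, 0, -4, 1, 0, -4, 16]),
   (62, [1, 0, 0, 0, 0, 0, 1, 1, 0, 1, 1, 0, 1, 0, 0, 1, 1, 1, 1, 1, 1, 1, 1, 1],
    [1, 0, 0, 0, 0, 0, 1, 1, 0, 1, 1, 0, -4, 0, -5, -4, -4, 1, 1, -4, 1, 1, -4, 16])]

/-- The last basis vector. -/
def eL : List ℤ := [0, 0, 0, 0, 0, 0, 0, 0, 0, 0, 0, 0, 0, 0, 0, 0, 0, 0, 0, 0, 0, 0, 0, 1]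

theorem emb_eL : emb (toF eL) = e8 none := by
  refine Subtype.ext (funext fun p => ?_)
  rw [emb_toF, coe_e8]
  revert p; decide +kernel

theorem cw_sep : isCW 4845570 = true := by decide +kernel

theorem sep_chk : allLT 64 (fun i => or' (not' (tb C7.D4 i)) (or' (Nat.beq i 32)
    (anyL sepL fun e => and' (Nat.beq e.1 i) (and' (chkPtv 64 C7.P e.2.1 i)
      (and' (allLT 24 fun p => eqZ (dotZ (getL [] BT p) e.2.2) (ite' (tb 4845570 p)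
        (Int.neg (dotZ (getL [] BT p) e.2.1)) (dotZ (getL [] BT p) e.2.1)))
      (and' (anyLT 24 fun l => oddZ (Int.sub (getL 0 e.2.2 l) (getL 0 e.2.1 l)))
        (anyLT 24 fun l => oddZ (Int.sub (getL 0 e.2.2 l)
          (Int.add (getL 0 e.2.1 l) (getL 0 eL l)))))))))) = true := by decide +kernel

theorem sep_seven {v : leechLattice} (h : cls 0 v ∈ Fx (permHom (mc y7)) ∩ T4)
    (h1 : ∀ e ∈ sgnSub, cls 0 (e • v) = cls 0 v ∨ cls 0 (e • v) = cls 0 (v + e8 none)) :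
    cls 0 v = fr := by
  obtain ⟨i, hi, e⟩ := C7.hF.1.le h.1
  have h2 := (allLT_iff _ _).1 sep_chk i hi
  simp only [or'_eq_true, not'_eq_true, tb_eq, beq_iff, anyL_iff, and'_eq_true, allLT_iff,
    eqZ_iff, ite'_eq, anyLT_iff, oddZ_iff] at h2
  rcases h2.resolve_left (not_not.2 ((C7.hT i hi).1 (e ▸ h.2))) with rfl | ⟨a, -, -, h3, h4, h5⟩
  · rw [← e, lpt_eq_of_chkPtv [] (x := eL) (by decide +kernel), emb_nil, emb_eL, fr]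
  rw [lpt_eq_of_chkPtv [] h3, emb_nil] at e
  have h6 : sgn _ (setOf'_mem_codeSets cw_sep) • emb (toF a.2.1) = emb (toF a.2.2) :=
    Subtype.ext (funext fun p => by
      rw [sgn_smul, emb_toF, emb_toF, h4 _ (ix_lt p)]; simp only [mem_setOf']; rfl)
  have h7 := h1 _ (sgn_mem_sgnSub _ (setOf'_mem_codeSets cw_sep))
  have h8 : cls 0 (v + e8 none) = cls 0 (emb (toF a.2.1 + toF eL)) := by
    rw [map_add, emb_eL, cls0_iff, add_sub_add_right_eq_sub, ← cls0_iff, e]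
  rw [h8, ← smul_cls0, ← e, smul_cls0, h6, ← emb_nil, cls_emb_eq_iff, cls_emb_eq_iff] at h7
  obtain ⟨⟨l, hl, h9⟩, l', hl', h10⟩ := h5
  have h0 : ∀ k : ℤ, ∀ l, k * toF [] l = 0 := fun k _ => mul_zero k
  simp only [h0, sub_zero, exists_const] at h7
  exact h7.elim (fun hk => absurd ((hk ⟨l, hl⟩).symm.trans h9) zero_ne_one)
    fun hk => absurd ((hk ⟨l', hl'⟩).symm.trans h10) zero_ne_one

theorem CData.card_eq {x : Co0} {n : ℕ} {L : Type*} [Group L]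
    {ρ : centralizer ({x} : Set Co0) →* L} (c : CData x n ρ) :
    Nat.card (centralizer ({x} : Set Co0)) = 2 * orderOf x * Nat.card L := by
  have hle : zpowers (negOne * x) ≤ centralizer ({x} : Set Co0) := zpowers_le.2
    (mem_centralizer_singleton_iff.2 (by rw [mul_assoc, ← mul_assoc x, negOne_comm, mul_assoc]))
  rw [← ρ.ker.card_mul_index, index_ker, MonoidHom.range_eq_top.2 c.surj, card_top,
    show ρ.ker = (zpowers (negOne * x)).subgroupOf _ from Subgroup.ext c.ker,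
    Nat.card_congr (subgroupOfEquivOfLe hle).toEquiv, Nat.card_zpowers, orderOf_negOne_mul c.odd]

theorem orb_seven {S : Set leechLattice} (h : S ∈ Fx (permHom (mc y7)) ∩ T4) :
    ∃ g : Co0, g • fr = S ∧ ∀ T ∈ Fx (permHom (mc y7)), g⁻¹ • T ∈ Fx (permHom (mc y7)) := by
  obtain ⟨ρ, c⟩ := C7.cdata
  have h1 := c.card_eq
  have h2 := card_cent_mono_le (mc y7)
  rw [card_cent_eq, C7.ho, card_SL_three_two] at h1
  rw [C7.nI, cent_y7] at h2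
  have h3 : 7 ≤ (frOrb (permHom (mc y7))).ncard := by nlinarith
  have h4 := frOrb_subset (permHom_mem (mc y7))
  have h5 : C7.j • frOrb (permHom (mc y7)) ⊆ Fx (permHom (mc y7)) ∩ T4 := by
    rintro _ ⟨S, hS, rfl⟩
    exact ⟨Fx_inv (permHom (mc y7)) ▸ smul_mem_Fx C7.hj (h4 hS).1, smul_mem_T4 _ (h4 hS).2⟩
  have h6 := C7.hF0.1.inter_of_left T4
  have h7 := Set.eq_of_subset_of_ncard_le (Set.union_subset h4 h5) (by
    rw [Set.ncard_union_eq (two_mul_frOrb_le not_real_y7 C7.hj C7.hF0.1).1 (h6.subset h4)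
      (h6.subset h5), Set.ncard_smul_set, C7.nT]; omega) h6
  rcases h7.ge h with ⟨g, hg, rfl⟩ | ⟨_, ⟨g, hg, rfl⟩, rfl⟩
  · exact ⟨g, rfl, fun T hT => smul_mem_Fx (mem_centralizer_singleton_iff.1 (inv_mem hg)) hT⟩
  · refine ⟨C7.j * g, mul_smul _ _ _, fun T hT => ?_⟩
    rw [mul_inv_rev, mul_smul]
    refine smul_mem_Fx (mem_centralizer_singleton_iff.1 (inv_mem hg))
      (smul_mem_Fx (x := (permHom (mc y7))⁻¹) ?_ (Fx_inv _ ▸ hT))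
    rw [inv_mul_eq_iff_eq_mul, ← mul_assoc, C7.hj, mul_inv_cancel_right]

variable {z : G} {Q : Subgroup G} {π : centralizer ({z} : Set G) →* Co1} {φ : leechLattice → G}
  {K : Subgroup G} {b : G} {m : K →* H}

theorem pair_sep [Finite G] (d : MonData z Q π φ) {g u : G} (hne : g * z * g⁻¹ ≠ z)
    (hs : Eqv z (g * z * g⁻¹) (φ (e8 none))) (hu : u ∈ Q.map (MulAut.conj g).toMonoidHom)
    {v : leechLattice} (hv : Eqv z u (φ v)) {e : Co0} (he : e ∈ sgnSub) :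
    cls 0 (e • v) = cls 0 v ∨ cls 0 (e • v) = cls 0 (v + e8 none) := by
  have hp := d.pair (d.mem_of_eqv hs) hne
  obtain ⟨h, h1, h2⟩ := MonData.mem_preim.1 ((d.preim_eq hp (d.card_conj g) hs).ge he)
  have h3 := (d.conj_eqv h2 hv).symm d.z_sq
  refine (hp.hP.conj h1 hu).imp (fun a => (eqv_cls d).1 ?_) fun a => (eqv_cls d).1 ?_ <;>
    rw [a] at h3
  · exact h3.trans d.z_sq hv
  · exact (h3.trans d.z_sq (eqv_mul d.lx.toXS (d.mem _) hv hs)).trans d.z_sq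
      ((d.add _ _).symm d.z_sq)

theorem sep_of [Finite G] (d : MonData z Q π φ) (q : OQ K b 7 m)
    {hb : b ∈ centralizer ({z} : Set G)} (hx : (permHom (mc y7) : Co1) = π ⟨b, hb⟩)
    (o2 : O2C (m ⟨z, z_mem_K q hb⟩) ≤ (Q.subgroupOf K).map m) : Sep (m ⟨z, z_mem_K q hb⟩) := by
  intro c a h1 h2 h3 h4 h5
  have hz4 : z ^ 4 = 1 := d.lx.pow_four d.lx.z_mem
  obtain ⟨c, rfl⟩ := q.surj c
  obtain ⟨a, ha, rfl⟩ := o2 h3
  obtain ⟨s, hs, e1⟩ := o2 h1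
  have e2 := q.conj_eq hz4 (d.lx.pow_four hs) e1.symm
  have e3 := (q.comm_iff (d.lx.pow_four ha)).1 h5
  have hne : (s : G) ≠ z := fun e => h2 (e1 ▸ congrArg m (Subtype.ext e))
  rw [← e1, ← map_mul]
  refine (eq_or_ne (a : G) z).imp (fun e => congrArg m (Subtype.ext e)) fun hne' => ?_
  obtain ⟨k, hk⟩ := isConj_iff.1 h4
  obtain ⟨k, rfl⟩ := q.surj k
  have key : ∀ r : K, (r : G) ∈ Q → IsConj z r → (r : G) ≠ z → ∃ v, Eqv z r (φ v) ∧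
      cls 0 v ∈ Fx (permHom (mc y7)) ∩ T4 := fun r h6 h7 h8 => by
    obtain ⟨v, h9, h10⟩ := d.eqv_64_of_isConj h6 h7 h8
    obtain ⟨w, h11, h12⟩ := (mem_inf_iff d q hx).1 ⟨h6, r.2⟩
    exact ⟨v, h9, (eqv_cls d).1 ((h12.symm d.z_sq).trans d.z_sq h9) ▸ h11, v, h10, rfl⟩
  obtain ⟨v, h6, h7⟩ := key s hs (isConj_iff.2 ⟨_, e2⟩) hne
  obtain ⟨w, h8, h9⟩ := key a ha (isConj_iff.2 ⟨_, q.conj_eq hz4 (d.lx.pow_four ha) hk⟩) hne'
  obtain ⟨g, h10, h11⟩ := orb_seven h7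
  have h12 : Eqv z s (φ (g⁻¹⁻¹ • e8 none)) :=
    h6.trans d.z_sq ((eqv_cls d).2 (by rw [← h10, inv_inv, fr, smul_cls0]))
  have h13 : Eqv z a (φ (g⁻¹⁻¹ • g⁻¹ • w)) := by rwa [inv_smul_smul]
  have h14 := sep_seven (v := g⁻¹ • w) (smul_cls0 _ _ ▸ ⟨h11 _ h9.1, smul_mem_T4 _ h9.2⟩)
    fun e he => pair_sep (d.twist g⁻¹) (g := c) (e2 ▸ hne) (e2 ▸ h12)
      ⟨a, ha, conj_eq_of_comm e3⟩ h13 he
  exact ((h13.trans d.z_sq ((eqv_cls (d.twist g⁻¹)).2 h14)).trans d.z_sq (h12.symm d.z_sq)).imp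
    (fun e => congrArg m (Subtype.ext e)) fun e => congrArg m (Subtype.ext e)

end Cfsg.Agent.Mont
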